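import Mathlib.AlgebraicGeometry.Morphisms.Finite
import Mathlib.AlgebraicGeometry.Morphisms.Integral
import Mathlib.AlgebraicGeometry.Limits

/-!
# A finite coproduct of finite morphisms is finite
-/

set_option autoImplicit false
universe u

open CategoryTheory CategoryTheory.Limits AlgebraicGeometry

namespace SGA1Q

theorem isIntegralHom_sigmaDesc {X : Scheme.{u}} {ι : Type u} [Finite ι] {Y : ι → Scheme.{u}}
    (f : ∀ i, Y i ⟶ X) (hf : ∀ i, IsIntegralHom (f i)) : IsIntegralHom (Sigma.desc f) := by
  induction ι using Finite.induction_empty_option with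
  | @of_equiv α β e ih =>
    have h : IsIntegralHom (Sigma.desc fun a => f (e a)) := ih _ fun a => hf (e a)
    have : Sigma.desc f = (Sigma.reindex e Y).inv ≫ Sigma.desc fun a => f (e a) := by
      rw [Iso.eq_inv_comp]
      refine Sigma.hom_ext _ _ fun a => ?_
      simp
    rw [this]
    exact MorphismProperty.comp_mem _ _ _ inferInstance h
  | h_empty =>
    haveI : IsEmpty ↥(∐ Y) := ⟨fun z => by
      obtain ⟨i, -⟩ := (sigmaMk Y).surjective z
      exact i.1.elim⟩
    infer_instance
  | @h_option α _ ih =>
    let φ : (∐ fun a : α => Y (some a)) ⨿ Y none ⟶ ∐ Y :=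
      coprod.desc (Sigma.desc fun a => Sigma.ι Y (some a)) (Sigma.ι Y none)
    let ψ : ∐ Y ⟶ (∐ fun a : α => Y (some a)) ⨿ Y none :=
      Sigma.desc fun o => match o with
        | some a => Sigma.ι (fun a : α => Y (some a)) a ≫ coprod.inl
        | none => coprod.inr
    haveI : IsIso ψ := ⟨φ, by
      refine Sigma.hom_ext _ _ fun o => ?_
      cases o <;> simp [φ, ψ] <;> (first | exact coprod.inr_desc _ _ |
        (erw [coprod.inl_desc]; simp)), by
      apply coprod.hom_ext
      · refine Sigma.hom_ext _ _ fun a => ?_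
        simp [φ, ψ]
        erw [coprod.inl_desc, Sigma.ι_desc_assoc, Sigma.ι_desc]
      · simp [φ, ψ]
        erw [coprod.inr_desc]⟩
    have : Sigma.desc f = ψ ≫ coprod.desc (Sigma.desc fun a => f (some a)) (f none) := by
      refine Sigma.hom_ext _ _ fun o => ?_
      cases o <;> simp [ψ] <;> (first | exact (coprod.inr_desc _ _).symm |
        (erw [coprod.inl_desc]; simp))
    rw [this]
    haveI := ih (fun a => f (some a)) fun a => hf _
    haveI := hf none
    infer_instance

theorem isFinite_sigmaDesc {X : Scheme.{u}} {ι : Type u} [Finite ι] {Y : ι → Scheme.{u}}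
    (f : ∀ i, Y i ⟶ X) (hf : ∀ i, IsFinite (f i)) : IsFinite (Sigma.desc f) :=
  (IsFinite.iff_isIntegralHom_and_locallyOfFiniteType _).2
    ⟨isIntegralHom_sigmaDesc f fun _ => inferInstance,
      IsZariskiLocalAtSource.sigmaDesc (P := @LocallyOfFiniteType) fun _ => inferInstance⟩

end SGA1Q
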