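import Groth.Prelude.Def_SGA1
import Mathlib.AlgebraicGeometry.PullbackCarrier
import Mathlib.AlgebraicGeometry.Morphisms.UniversallyClosed
import Mathlib.AlgebraicGeometry.Morphisms.UniversallyOpen
import Mathlib.AlgebraicGeometry.Morphisms.Separated
import Mathlib.AlgebraicGeometry.Morphisms.Proper
import Mathlib.AlgebraicGeometry.Morphisms.Immersion

/-!
# Properties descending along universally submersive morphisms
-/

set_option autoImplicit false
universe u

open CategoryTheory CategoryTheory.Limits AlgebraicGeometry

namespace SGA1Q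

variable {S S' X X' Y Y' : Scheme.{u}}

/-- A base change of a universally submersive morphism is a topological quotient map. -/
theorem isQuotientMap_of_isPullback {g : S' ⟶ S} (hg : SGA1.UnivSubmersive g) {k : Y' ⟶ Y}
    {j : Y' ⟶ S'} {q : Y ⟶ S} (h : IsPullback k j q g) : Topology.IsQuotientMap k.base :=
  hg j q k h

/-- A base change of a universally submersive morphism is universally submersive. -/
theorem univSubmersive_of_isPullback {g : S' ⟶ S} (hg : SGA1.UnivSubmersive g) {k : Y' ⟶ Y}
    {j : Y' ⟶ S'} {q : Y ⟶ S} (h : IsPullback k j q g) : SGA1.UnivSubmersive k :=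
  MorphismProperty.IsStableUnderBaseChange.of_isPullback
    (P := MorphismProperty.universally (topologically fun f => Topology.IsQuotientMap f)) h.flip hg

theorem isQuotientMap_fst {g : S' ⟶ S} (hg : SGA1.UnivSubmersive g) (q : Y ⟶ S) :
    Topology.IsQuotientMap (pullback.fst q g).base :=
  isQuotientMap_of_isPullback hg (IsPullback.of_hasPullback q g)

section

variable {f : X ⟶ Y} {k : Y' ⟶ Y} {f' : X' ⟶ Y'} {kX : X' ⟶ X}

lemma image_preimage_eq_preimage_image (h : IsPullback f' kX k f) (U : Set X) :
    f'.base '' (kX.base ⁻¹' U) = k.base ⁻¹' (f.base '' U) := by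
  ext y
  constructor
  · rintro ⟨x, hx, rfl⟩
    exact ⟨kX x, hx, (congr(($h.w).base x)).symm⟩
  · rintro ⟨x, hx, e⟩
    obtain ⟨z, hz₁, hz₂⟩ := Scheme.Pullback.exists_preimage_pullback y x e.symm
    refine ⟨h.isoPullback.inv z, ?_, ?_⟩
    · show kX (h.isoPullback.inv z) ∈ U
      rw [← Scheme.Hom.comp_apply, h.isoPullback_inv_snd, hz₂]
      exact hx
    · rw [← Scheme.Hom.comp_apply, h.isoPullback_inv_fst, hz₁]

theorem isOpenMap_of_isPullback (h : IsPullback f' kX k f) (hk : Topology.IsQuotientMap k.base)
    (hf : IsOpenMap f'.base) : IsOpenMap f.base := by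
  intro U hU
  rw [← hk.isOpen_preimage, ← image_preimage_eq_preimage_image h]
  exact hf _ (hU.preimage kX.continuous)

theorem isClosedMap_of_isPullback (h : IsPullback f' kX k f) (hk : Topology.IsQuotientMap k.base)
    (hf : IsClosedMap f'.base) : IsClosedMap f.base := by
  intro U hU
  rw [← hk.isClosed_preimage, ← image_preimage_eq_preimage_image h]
  exact hf _ (hU.preimage kX.continuous)

theorem universally_of_isPullback {P : MorphismProperty Scheme.{u}}
    (hP : ∀ {A A' B B' : Scheme.{u}} {f : A ⟶ B} {k : B' ⟶ B} {f' : A' ⟶ B'} {kA : A' ⟶ A},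
      IsPullback f' kA k f → Topology.IsQuotientMap k.base → P f' → P f)
    (h : IsPullback f' kX k f) (hk : SGA1.UnivSubmersive k)
    (hf : P.universally f') : P.universally f := by
  intro A B i₁ i₂ f₁ h₁
  let k₁ := pullback.fst i₂ k
  let f₁' := pullback.snd f₁ k₁
  have hsq : IsPullback f₁' (pullback.fst f₁ k₁) k₁ f₁ :=
    (IsPullback.of_hasPullback f₁ k₁).flip
  refine hP hsq (isQuotientMap_fst hk i₂) ?_
  -- `f₁'` is a base change of `f'`
  have hout : IsPullback f₁' (pullback.fst f₁ k₁ ≫ i₁) (k₁ ≫ i₂) f :=
    hsq.paste_vert h₁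
  have hout' : IsPullback f₁' (pullback.fst f₁ k₁ ≫ i₁) (pullback.snd i₂ k ≫ k) f := by
    rw [show pullback.snd i₂ k ≫ k = k₁ ≫ i₂ from pullback.condition.symm]
    exact hout
  let j : pullback f₁ k₁ ⟶ X' := h.lift (f₁' ≫ pullback.snd i₂ k) (pullback.fst f₁ k₁ ≫ i₁)
    (by rw [Category.assoc]; exact hout'.w)
  refine hf j (pullback.snd i₂ k) f₁' (IsPullback.of_bot ?_ (h.lift_fst _ _ _).symm h)
  rw [show j ≫ kX = pullback.fst f₁ k₁ ≫ i₁ from h.lift_snd _ _ _]
  exact hout'

theorem universallyOpen_of_isPullback (h : IsPullback f' kX k f) (hk : SGA1.UnivSubmersive k)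
    (hf : UniversallyOpen f') : UniversallyOpen f :=
  ⟨universally_of_isPullback (P := topologically @IsOpenMap)
    (fun h hk hf => isOpenMap_of_isPullback h hk hf) h hk hf.1⟩

theorem universallyClosed_of_isPullback (h : IsPullback f' kX k f) (hk : SGA1.UnivSubmersive k)
    (hf : UniversallyClosed f') : UniversallyClosed f :=
  ⟨universally_of_isPullback (P := topologically @IsClosedMap)
    (fun h hk hf => isClosedMap_of_isPullback h hk hf) h hk hf.1⟩

theorem isSeparated_of_isPullback (h : IsPullback f' kX k f) (hk : SGA1.UnivSubmersive k)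
    (hf : IsSeparated f') : IsSeparated f := by
  let W := pullback (pullback.fst f f ≫ f) k
  let w : W ⟶ pullback f f := pullback.fst _ k
  have hw : Topology.IsQuotientMap w.base := isQuotientMap_fst hk _
  let a : W ⟶ X' := h.lift (pullback.snd _ k) (w ≫ pullback.fst f f)
    (by rw [Category.assoc]; exact pullback.condition.symm)
  let b : W ⟶ X' := h.lift (pullback.snd _ k) (w ≫ pullback.snd f f)
    (by rw [Category.assoc, ← pullback.condition (f := f) (g := f)]; exact pullback.condition.symm)
  let c : W ⟶ pullback f' f' := pullback.lift a b (by rw [h.lift_fst, h.lift_fst])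
  have key : w.base ⁻¹' Set.range (pullback.diagonal f) =
      c.base ⁻¹' Set.range (pullback.diagonal f') := by
    ext z
    constructor
    · rintro ⟨x, hx⟩
      obtain ⟨t, ht₁, ht₂⟩ := Scheme.Pullback.exists_preimage_pullback z x hx.symm
      have hcond : pullback.fst w (pullback.diagonal f) ≫ w =
          pullback.snd w (pullback.diagonal f) ≫ pullback.diagonal f := pullback.condition
      have hab : pullback.fst w (pullback.diagonal f) ≫ a =
          pullback.fst w (pullback.diagonal f) ≫ b := by
        apply h.hom_ext
        · simp [a, b]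
        · simp only [a, b, Category.assoc, h.lift_snd]
          rw [reassoc_of% hcond, reassoc_of% hcond, pullback.diagonal_fst, pullback.diagonal_snd]
      refine ⟨a z, ?_⟩
      have e : pullback.fst w (pullback.diagonal f) ≫ c =
          (pullback.fst w (pullback.diagonal f) ≫ a) ≫ pullback.diagonal f' := by
        apply pullback.hom_ext
        · rw [Category.assoc, Category.assoc, pullback.diagonal_fst, Category.comp_id]
          exact congrArg (pullback.fst w (pullback.diagonal f) ≫ ·) (pullback.lift_fst _ _ _)
        · rw [Category.assoc, Category.assoc, pullback.diagonal_snd, Category.comp_id, hab]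
          exact congrArg (pullback.fst w (pullback.diagonal f) ≫ ·) (pullback.lift_snd _ _ _)
      rw [← ht₁]
      exact (congr(($e).base t)).symm
    · rintro ⟨x, hx⟩
      refine ⟨kX x, ?_⟩
      let K : pullback f' f' ⟶ pullback f f :=
        pullback.map f' f' f f kX kX k h.w h.w
      have e1 : c ≫ K = w := by
        apply pullback.hom_ext
        · simp only [K, c, pullback.map, Category.assoc, pullback.lift_fst, pullback.lift_fst_assoc,
            a, h.lift_snd]
        · simp only [K, c, pullback.map, Category.assoc, pullback.lift_snd, pullback.lift_snd_assoc,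
            b, h.lift_snd]
      have e2 : pullback.diagonal f' ≫ K = kX ≫ pullback.diagonal f := by
        apply pullback.hom_ext
        · simp only [K, pullback.map, Category.assoc, pullback.lift_fst, pullback.diagonal_fst,
            pullback.diagonal_fst_assoc, Category.comp_id]
        · simp only [K, pullback.map, Category.assoc, pullback.lift_snd, pullback.diagonal_snd,
            pullback.diagonal_snd_assoc, Category.comp_id]
      calc pullback.diagonal f (kX x) = K (pullback.diagonal f' x) := (congr(($e2).base x)).symm
        _ = K (c z) := congrArg K hx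
        _ = w z := congr(($e1).base z)
  refine ⟨IsClosedImmersion.of_isPreimmersion _ ?_⟩
  rw [← hw.isClosed_preimage, key]
  haveI := hf.1
  exact (pullback.diagonal f').isClosedEmbedding.isClosed_range.preimage c.continuous

end

end SGA1Q
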