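import Groth.Agent.SGA1Q.Affine
import Mathlib.AlgebraicGeometry.Morphisms.Finite
import Mathlib.AlgebraicGeometry.Morphisms.Separated
import Mathlib.AlgebraicGeometry.Noetherian
import Mathlib.RingTheory.Adjoin.Tower

/-!
# Affineness, separatedness and finiteness of quotients by finite groups
-/

set_option autoImplicit false
universe u

open CategoryTheory CategoryTheory.Limits AlgebraicGeometry TopologicalSpace

namespace SGA1Q

variable {X Y Z : Scheme.{u}} {G : Type u} [Group G]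

section Restrict

variable (ρ : G →* Aut X) (O : X.Opens) (hO : ∀ g : G, O ≤ (ρ g).hom ⁻¹ᵁ O)

/-- The endomorphism of a stable open induced by a group element. -/
noncomputable def restrictHom (g : G) : O.toScheme ⟶ O.toScheme :=
  (ρ g).hom.resLE O O (hO g)

@[reassoc]
lemma restrictHom_ι (g : G) : restrictHom ρ O hO g ≫ O.ι = O.ι ≫ (ρ g).hom :=
  Scheme.Hom.resLE_comp_ι _ _

lemma restrictHom_one : restrictHom ρ O hO 1 = 𝟙 _ := by
  rw [← cancel_mono O.ι, restrictHom_ι, hom_one, Category.comp_id, Category.id_comp]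

lemma restrictHom_mul (g g' : G) :
    restrictHom ρ O hO (g * g') = restrictHom ρ O hO g' ≫ restrictHom ρ O hO g := by
  rw [← cancel_mono O.ι, restrictHom_ι, Category.assoc, restrictHom_ι, restrictHom_ι_assoc,
    hom_mul]

/-- The action induced on a stable open. -/
noncomputable def restrictAction : G →* Aut O.toScheme where
  toFun g :=
    { hom := restrictHom ρ O hO g
      inv := restrictHom ρ O hO g⁻¹
      hom_inv_id := by rw [← restrictHom_mul, inv_mul_cancel, restrictHom_one]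
      inv_hom_id := by rw [← restrictHom_mul, mul_inv_cancel, restrictHom_one] }
  map_one' := Iso.ext (restrictHom_one ρ O hO)
  map_mul' g g' := Iso.ext (restrictHom_mul ρ O hO g g')

lemma restrictAction_hom_ι (g : G) :
    (restrictAction ρ O hO g).hom ≫ O.ι = O.ι ≫ (ρ g).hom :=
  restrictHom_ι ρ O hO g

end Restrict

variable [Finite G] {ρ : G →* Aut X} {p : X ⟶ Y}

/-- A quotient of an affine scheme is affine. -/
theorem isAffine_of_isQuot [IsAffine X] (hp : SGA1.IsQuot ρ p) : IsAffine Y := by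
  set p₂ := p ≫ Y.toSpecΓ with hp₂
  have hinv : ∀ g : G, (ρ g).hom ≫ p₂ = p₂ := fun g => by rw [hp₂, reassoc_of% hp.inv g]
  have hq : SGA1.IsQuot ρ p₂ := by
    refine isQuot_of_affine_cover inferInstance hinv fun y => ⟨⊤, isAffineOpen_top _, trivial, ?_⟩
    have happ : p₂.app ⊤ = Y.toSpecΓ.appTop ≫ p.appTop := rfl
    have hb : Function.Bijective (Y.toSpecΓ.appTop).hom := by
      rw [Scheme.toSpecΓ_appTop]
      exact ConcreteCategory.bijective_of_isIso _
    refine ⟨?_, fun s hs => ?_⟩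
    · rw [happ]
      exact (hp.injective ⊤).comp hb.1
    · obtain ⟨t, ht⟩ := (hp.range_iff ⊤ s).2 hs
      obtain ⟨t', rfl⟩ := hb.2 t
      exact ⟨t', by rw [happ]; exact ht⟩
  obtain ⟨h', hh', -⟩ := desc_existsUnique_isQuot hq p hp.inv
  haveI := epi_of_surjective_of_injective p (surjective hp) hp.injective
  haveI := epi_of_surjective_of_injective p₂ (surjective hq) hq.injective
  have e1 : Y.toSpecΓ ≫ h' = 𝟙 Y := by
    rw [← cancel_epi p, ← Category.assoc, ← hp₂, hh', Category.comp_id]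
  have e2 : h' ≫ Y.toSpecΓ = 𝟙 _ := by
    rw [← cancel_epi p₂, reassoc_of% hh', Category.comp_id]
  exact ⟨⟨h', e1, e2⟩⟩

variable {f : X ⟶ Z} {q : Y ⟶ Z}

theorem isAffineHom_iff_of_isQuot (hp : SGA1.IsQuot ρ p) (hq : p ≫ q = f) :
    IsAffineHom f ↔ IsAffineHom q := by
  haveI := hp.affine
  subst hq
  refine ⟨fun h => ⟨fun W hW => ?_⟩, fun h => inferInstance⟩
  have hst := fun g => SGA1.preimage_le_of_inv ρ p hp.inv g (q ⁻¹ᵁ W)
  have hA : IsAffineOpen (p ⁻¹ᵁ (q ⁻¹ᵁ W)) := hW.preimage (p ≫ q)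
  haveI : IsAffine (p ⁻¹ᵁ (q ⁻¹ᵁ W)).toScheme := hA
  exact isAffine_of_isQuot (isQuot_morphismRestrict hp (q ⁻¹ᵁ W)
    (restrictAction ρ _ hst) (restrictAction_hom_ι ρ _ hst))

theorem isSeparated_iff_of_isQuot (hp : SGA1.IsQuot ρ p) (hq : p ≫ q = f) :
    IsSeparated f ↔ IsSeparated q := by
  haveI := hp.affine
  subst hq
  refine ⟨fun h => ?_, fun h => inferInstance⟩
  haveI := isIntegralHom hp
  haveI : UniversallyClosed p := inferInstance
  let P : pullback (p ≫ q) (p ≫ q) ⟶ pullback q q :=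
    pullback.map _ _ _ _ p p (𝟙 Z) (Category.comp_id _) (Category.comp_id _)
  haveI : UniversallyClosed P :=
    MorphismProperty.pullbackMap (P := @UniversallyClosed) (h₁ := ‹UniversallyClosed p›)
      (h₂ := ‹UniversallyClosed p›) rfl rfl
  have hPd : pullback.diagonal (p ≫ q) ≫ P = p ≫ pullback.diagonal q := by
    apply pullback.hom_ext
    · rw [Category.assoc, Category.assoc, pullback.diagonal_fst,
        show P ≫ pullback.fst q q = pullback.fst (p ≫ q) (p ≫ q) ≫ p from pullback.lift_fst _ _ _,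
        pullback.diagonal_fst_assoc, Category.comp_id]
    · rw [Category.assoc, Category.assoc, pullback.diagonal_snd,
        show P ≫ pullback.snd q q = pullback.snd (p ≫ q) (p ≫ q) ≫ p from pullback.lift_snd _ _ _,
        pullback.diagonal_snd_assoc, Category.comp_id]
  have hrange : Set.range (pullback.diagonal q) =
      P '' Set.range (pullback.diagonal (p ≫ q)) := by
    ext z
    constructor
    · rintro ⟨y, rfl⟩
      obtain ⟨x, rfl⟩ := surjective hp y
      exact ⟨_, ⟨x, rfl⟩, congr(($hPd).base x)⟩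
    · rintro ⟨_, ⟨x, rfl⟩, rfl⟩
      exact ⟨p x, (congr(($hPd).base x)).symm⟩
  refine ⟨IsClosedImmersion.of_isPreimmersion _ ?_⟩
  rw [hrange]
  exact P.isClosedMap _ (pullback.diagonal (p ≫ q)).isClosedEmbedding.isClosed_range

theorem isFinite_of_isQuot (hp : SGA1.IsQuot ρ p) (hq : p ≫ q = f) (hf : LocallyOfFiniteType f) :
    IsFinite p := by
  subst hq
  haveI := locallyOfFiniteType_of_comp p q
  exact (IsFinite.iff_isIntegralHom_and_locallyOfFiniteType p).2 ⟨isIntegralHom hp, inferInstance⟩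

theorem locallyOfFiniteType_of_isQuot [IsLocallyNoetherian Z] (hp : SGA1.IsQuot ρ p)
    (hq : p ≫ q = f) (hf : LocallyOfFiniteType f) : LocallyOfFiniteType q := by
  haveI := hp.affine
  haveI := isFinite_of_isQuot hp hq hf
  subst hq
  constructor
  intro W hW U hU e
  have hA : IsAffineOpen (p ⁻¹ᵁ U) := hU.preimage p
  letI := (q.appLE W U e).hom.toAlgebra
  letI := (p.app U).hom.toAlgebra
  letI := ((p.app U).hom.comp (q.appLE W U e).hom).toAlgebra
  haveI : IsScalarTower Γ(Z, W) Γ(Y, U) Γ(X, p ⁻¹ᵁ U) := IsScalarTower.of_algebraMap_eq' rfl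
  haveI : IsNoetherianRing Γ(Z, W) := IsLocallyNoetherian.component_noetherian ⟨W, hW⟩
  have h1 := (p ≫ q).finiteType_appLE hW hA
    (show p ⁻¹ᵁ U ≤ (p ≫ q) ⁻¹ᵁ W from p.preimage_mono e)
  rw [← Scheme.Hom.appLE_comp_appLE p q W U (p ⁻¹ᵁ U) e le_rfl, ← Scheme.Hom.app_eq_appLE] at h1
  have h2 : Algebra.FiniteType Γ(Z, W) Γ(X, p ⁻¹ᵁ U) := h1
  have h3 : Module.Finite Γ(Y, U) Γ(X, p ⁻¹ᵁ U) := p.finite_app U hU
  exact (⟨fg_of_fg_of_fg Γ(Z, W) Γ(Y, U) Γ(X, p ⁻¹ᵁ U) h2.out h3.fg_top (hp.injective U)⟩ :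
    Algebra.FiniteType Γ(Z, W) Γ(Y, U))

theorem quasiCompact_of_isQuot (hp : SGA1.IsQuot ρ p) (hq : p ≫ q = f) (hf : QuasiCompact f) :
    QuasiCompact q := by
  subst hq
  refine ⟨fun W hW hWc => ?_⟩
  have h := (QuasiCompact.isCompact_preimage (f := p ≫ q) W hW hWc).image p.continuous
  rwa [show (p ≫ q) ⁻¹' W = p ⁻¹' (q ⁻¹' W) from rfl,
    Set.image_preimage_eq _ (surjective hp)] at h

end SGA1Q
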