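import Groth.Agent.SGA1Q.Properties
import Mathlib.AlgebraicGeometry.Gluing
import Mathlib.AlgebraicGeometry.Limits

/-!
# Existence of quotients by finite groups when orbits lie in affine opens
-/

set_option autoImplicit false
universe u

open CategoryTheory CategoryTheory.Limits AlgebraicGeometry TopologicalSpace

namespace SGA1Q

variable {X : Scheme.{u}} {G : Type u} [Group G] [Finite G]

lemma hom_mul_apply (ρ : G →* Aut X) (g h : G) (z : X) :
    (ρ g).hom ((ρ h).hom z) = (ρ (g * h)).hom z :=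
  (congr(($(hom_mul ρ g h)).base z)).symm

lemma hom_one_apply (ρ : G →* Aut X) (z : X) : (ρ 1).hom z = z :=
  congr(($(hom_one ρ)).base z)

/-- A point whose orbit lies in an affine open and in a stable open `W₀` has a stable affine
neighbourhood in `W₀`. -/
theorem exists_stable_affine (ρ : G →* Aut X) {U : X.Opens} (hU : IsAffineOpen U) (x : X)
    (hx : ∀ g : G, (ρ g).hom x ∈ U) (W₀ : X.Opens) (hW₀ : ∀ g : G, W₀ ≤ (ρ g).hom ⁻¹ᵁ W₀)
    (hx₀ : x ∈ W₀) :
    ∃ V : X.Opens, IsAffineOpen V ∧ (∀ g : G, V ≤ (ρ g).hom ⁻¹ᵁ V) ∧ x ∈ V ∧ V ≤ W₀ := by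
  classical
  cases nonempty_fintype G
  let W : X.Opens := W₀ ⊓ Finset.univ.inf fun g => (ρ g).hom ⁻¹ᵁ U
  have hmem : ∀ z, z ∈ W ↔ z ∈ W₀ ∧ ∀ g, (ρ g).hom z ∈ U := by
    intro z
    have : ∀ s : Finset G, z ∈ s.inf (fun g => (ρ g).hom ⁻¹ᵁ U) ↔ ∀ g ∈ s, (ρ g).hom z ∈ U := by
      intro s
      induction s using Finset.induction with
      | empty => simp
      | insert g s hg ih =>
        rw [Finset.inf_insert, Opens.mem_inf, ih, Finset.forall_mem_insert]
        rfl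
    show z ∈ W₀ ⊓ _ ↔ _
    rw [Opens.mem_inf, this]
    simp
  have hWU : W ≤ U := fun z hz => by
    have := ((hmem z).1 hz).2 1
    rwa [hom_one_apply] at this
  have hxW : ∀ g, (ρ g).hom x ∈ W := fun g =>
    (hmem _).2 ⟨hW₀ g hx₀, fun g' => by rw [hom_mul_apply]; exact hx _⟩
  -- prime avoidance
  obtain ⟨f, hfW, hfx⟩ : ∃ f : Γ(X, U), X.basicOpen f ≤ W ∧ ∀ g, (ρ g).hom x ∈ X.basicOpen f := by
    let I : Ideal Γ(X, U) :=
      { carrier := {f | X.basicOpen f ≤ W}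
        add_mem' := fun {a b} ha hb => (X.basicOpen_add_le a b).trans (sup_le ha hb)
        zero_mem' := by
          show X.basicOpen (0 : Γ(X, U)) ≤ W
          rw [Scheme.basicOpen_zero]; exact bot_le
        smul_mem' := fun c a ha => by
          show X.basicOpen (c * a) ≤ W
          rw [Scheme.basicOpen_mul]
          exact inf_le_right.trans ha }
    let P : G → Ideal Γ(X, U) := fun g =>
      RingHom.ker (X.evaluation U ((ρ g).hom x) (hx g)).hom
    have hP : ∀ g a, a ∈ P g ↔ (ρ g).hom x ∉ X.basicOpen a := fun g a =>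
      Scheme.evaluation_eq_zero_iff_notMem_basicOpen X _ (hx g) a
    by_contra hne
    push_neg at hne
    have hsub : (I : Set Γ(X, U)) ⊆ ⋃ g ∈ (↑(Finset.univ : Finset G) : Set G), P g := by
      intro f hf
      obtain ⟨g, hg⟩ := hne f hf
      exact Set.mem_biUnion (Finset.mem_coe.2 (Finset.mem_univ g)) ((hP g f).2 hg)
    obtain ⟨g, -, hg⟩ := (Ideal.subset_union_prime 1 1
      (fun g _ _ _ => RingHom.ker_isPrime _)).1 hsub
    obtain ⟨f, hf, hxf⟩ := hU.exists_basicOpen_le ⟨_, hxW g⟩ (hx g)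
    exact (hP g f).1 (hg (show f ∈ I from hf)) hxf
  set D := X.basicOpen f with hD
  have hDW : D ≤ W := hfW
  have hle : ∀ g, D ≤ (ρ g).hom ⁻¹ᵁ U := fun g z hz => ((hmem z).1 (hDW hz)).2 g
  let a : G → Γ(X, D) := fun g => ((ρ g).hom.appLE U D (hle g)).hom f
  have ha : ∀ g, X.basicOpen (a g) = D ⊓ (ρ g).hom ⁻¹ᵁ D := by
    intro g
    show X.basicOpen ((X.presheaf.map _).hom (((ρ g).hom.app U).hom f)) = _
    rw [Scheme.basicOpen_res, ← Scheme.preimage_basicOpen]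
  have hN : ∀ (s : Finset G) (z : X), z ∈ X.basicOpen (∏ g ∈ s, a g) ↔
      z ∈ D ∧ ∀ g ∈ s, (ρ g).hom z ∈ D := by
    intro s z
    induction s using Finset.induction with
    | empty => simp [Scheme.basicOpen_one]
    | insert g s hg ih =>
      rw [Finset.prod_insert hg, Scheme.basicOpen_mul, Opens.mem_inf, ih, ha g, Opens.mem_inf,
        Finset.forall_mem_insert]
      exact ⟨fun ⟨⟨h1, h2⟩, _, h3⟩ => ⟨h1, h2, h3⟩, fun ⟨h1, h2, h3⟩ => ⟨⟨h1, h2⟩, h1, h3⟩⟩
  refine ⟨X.basicOpen (∏ g, a g), (hU.basicOpen f).basicOpen _, ?_, ?_, ?_⟩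
  · intro h z hz
    rw [hN] at hz
    show (ρ h).hom z ∈ X.basicOpen _
    rw [hN]
    exact ⟨hz.2 h (Finset.mem_univ h), fun g _ => by
      rw [hom_mul_apply]; exact hz.2 _ (Finset.mem_univ _)⟩
  · rw [hN]
    refine ⟨?_, fun g _ => hfx g⟩
    have := hfx 1
    rwa [hom_one_apply] at this
  · exact (X.basicOpen_le _).trans (hDW.trans inf_le_left)

/-- The fixed ring of global sections. -/
noncomputable def fixedRing (σ : G →* Aut X) : Subring Γ(X, ⊤) where
  carrier := {a | ∀ g : G, (σ g).hom.appTop.hom a = a}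
  mul_mem' ha hb g := by rw [map_mul, ha g, hb g]
  one_mem' g := map_one _
  add_mem' ha hb g := by rw [map_add, ha g, hb g]
  zero_mem' g := map_zero _
  neg_mem' ha g := by rw [map_neg, ha g]

/-- The quotient map of an affine scheme. -/
noncomputable def affQuotMap (σ : G →* Aut X) : X ⟶ Spec (CommRingCat.of (fixedRing σ)) :=
  X.toSpecΓ ≫ Spec.map (CommRingCat.ofHom (fixedRing σ).subtype)

theorem isQuot_affQuotMap [IsAffine X] (σ : G →* Aut X) : SGA1.IsQuot σ (affQuotMap σ) := by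
  have hinv : ∀ g : G, (σ g).hom ≫ affQuotMap σ = affQuotMap σ := by
    intro g
    rw [affQuotMap, Scheme.toSpecΓ_naturality_assoc, ← Spec.map_comp]
    congr 2
    ext a
    exact a.2 g
  have happ : (affQuotMap σ).appTop =
      (Scheme.ΓSpecIso (CommRingCat.of (fixedRing σ))).hom ≫
        CommRingCat.ofHom (fixedRing σ).subtype := by
    rw [affQuotMap, Scheme.Hom.comp_appTop, Scheme.toSpecΓ_appTop, Scheme.ΓSpecIso_naturality]
  refine isQuot_of_affine_cover inferInstance hinv fun y => ⟨⊤, isAffineOpen_top _, trivial, ?_⟩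
  have hb := ConcreteCategory.bijective_of_isIso
    (Scheme.ΓSpecIso (CommRingCat.of (fixedRing σ))).hom
  have happ' : (affQuotMap σ).app ⊤ = (affQuotMap σ).appTop := rfl
  refine ⟨?_, fun s hs => ?_⟩
  · rw [happ', happ]
    exact Subtype.val_injective.comp hb.1
  · have hfix : s ∈ fixedRing σ := fun g => by
      have e : (σ g).hom.appLE ⊤ ⊤ (fun _ _ => trivial) = (σ g).hom.appTop :=
        Scheme.Hom.appLE_eq_app _
      exact (congr(($e).hom s)).symm.trans (hs g)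
    obtain ⟨t, ht⟩ := hb.2 ⟨s, hfix⟩
    refine ⟨t, ?_⟩
    rw [happ', happ]
    exact congrArg Subtype.val ht

/-- The induced map between quotients of an equivariant open immersion with saturated image is
an open immersion. -/
theorem isOpenImmersion_induced {V Y Y' : Scheme.{u}} {σ : G →* Aut V} {q : V ⟶ Y'}
    (hq : SGA1.IsQuot σ q) {ρ : G →* Aut X} {p : X ⟶ Y} (hp : SGA1.IsQuot ρ p)
    (i : V ⟶ X) [IsOpenImmersion i] (hi : ∀ g, (σ g).hom ≫ i = i ≫ (ρ g).hom)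
    (h : Y' ⟶ Y) (hh : q ≫ h = i ≫ p) : IsOpenImmersion h := by
  haveI := hp.affine
  have hstab : ∀ (g : G) x, x ∈ i.opensRange → (ρ g).hom x ∈ i.opensRange := by
    rintro g _ ⟨v, rfl⟩
    exact ⟨(σ g).hom v, congr(($(hi g)).base v)⟩
  have hpre : p.base ⁻¹' (p.base '' (i.opensRange : Set X)) = i.opensRange := by
    refine Set.Subset.antisymm ?_ (Set.subset_preimage_image _ _)
    rintro x ⟨x', hx', e⟩
    obtain ⟨g, rfl⟩ := (orbit_iff hp x' x).1 e
    exact hstab g x' hx'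
  let O : Y.Opens := ⟨p.base '' (i.opensRange : Set X), by
    rw [← (isQuotientMap hp).isOpen_preimage, hpre]; exact i.opensRange.2⟩
  have hO : p ⁻¹ᵁ O = i.opensRange := Opens.ext hpre
  let e : V ⟶ (p ⁻¹ᵁ O).toScheme := IsOpenImmersion.lift (p ⁻¹ᵁ O).ι i (by
    rw [Scheme.Opens.range_ι, hO]; rfl)
  have he : e ≫ (p ⁻¹ᵁ O).ι = i := IsOpenImmersion.lift_fac _ _ _
  haveI : IsOpenImmersion e := by
    have : IsOpenImmersion (e ≫ (p ⁻¹ᵁ O).ι) := by rw [he]; infer_instance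
    exact IsOpenImmersion.of_comp e (p ⁻¹ᵁ O).ι
  haveI : Epi e.base := by
    rw [TopCat.epi_iff_surjective]
    rintro ⟨x, hx⟩
    obtain ⟨v, hv⟩ : x ∈ i.opensRange := hO ▸ hx
    refine ⟨v, Subtype.ext ?_⟩
    exact (congr(($he).base v)).trans hv
  haveI : IsIso e := IsOpenImmersion.isIso e
  let ρO := restrictAction ρ (p ⁻¹ᵁ O) fun g => SGA1.preimage_le_of_inv ρ p hp.inv g O
  have hρO : ∀ g, (ρO g).hom ≫ (p ⁻¹ᵁ O).ι = (p ⁻¹ᵁ O).ι ≫ (ρ g).hom :=
    restrictAction_hom_ι ρ _ _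
  have hpO : SGA1.IsQuot ρO (p ∣_ O) := isQuot_morphismRestrict hp O ρO hρO
  have heq : ∀ g, (σ g).hom ≫ e = e ≫ (ρO g).hom := fun g => by
    rw [← cancel_mono (p ⁻¹ᵁ O).ι, Category.assoc, Category.assoc, he, hρO, reassoc_of% he, hi]
  obtain ⟨n, hn, -⟩ := desc_existsUnique_isQuot hq (e ≫ (p ∣_ O)) fun g => by
    rw [← Category.assoc, heq, Category.assoc, hpO.inv]
  obtain ⟨m, hm, -⟩ := desc_existsUnique_isQuot hpO (inv e ≫ q) fun g => by
    rw [← cancel_epi e, ← Category.assoc, ← heq, Category.assoc, IsIso.hom_inv_id_assoc, hq.inv]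
  haveI := epi_of_surjective_of_injective q (surjective hq) hq.injective
  haveI := epi_of_surjective_of_injective (p ∣_ O) (surjective hpO) hpO.injective
  haveI : IsIso n := by
    refine ⟨m, ?_, ?_⟩
    · rw [← cancel_epi q, reassoc_of% hn, hm, IsIso.hom_inv_id_assoc, Category.comp_id]
    · rw [← cancel_epi (p ∣_ O), reassoc_of% hm, hn, IsIso.inv_hom_id_assoc, Category.comp_id]
  have : h = n ≫ O.ι := by
    rw [← cancel_epi q, hh, reassoc_of% hn, morphismRestrict_ι, reassoc_of% he]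
  rw [this]
  infer_instance

section Glue

variable (ρ : G →* Aut X)

/-- The stable affine opens. -/
abbrev Stab : Type u := {V : X.Opens // IsAffineOpen V ∧ ∀ g : G, V ≤ (ρ g).hom ⁻¹ᵁ V}

variable {ρ}

/-- The action on a stable affine open. -/
noncomputable def act (V : Stab ρ) : G →* Aut V.1.toScheme := restrictAction ρ V.1 V.2.2

lemma act_ι (V : Stab ρ) (g : G) : (act V g).hom ≫ V.1.ι = V.1.ι ≫ (ρ g).hom :=
  restrictAction_hom_ι ρ _ _ g

/-- The quotient of a stable affine open. -/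
noncomputable def quotObj (V : Stab ρ) : Scheme.{u} := Spec (CommRingCat.of (fixedRing (act V)))

/-- The quotient map of a stable affine open. -/
noncomputable def quotMap (V : Stab ρ) : V.1.toScheme ⟶ quotObj V := affQuotMap (act V)

lemma isQuot_quotMap (V : Stab ρ) : SGA1.IsQuot (act V) (quotMap V) :=
  haveI : IsAffine V.1.toScheme := V.2.1
  isQuot_affQuotMap (act V)

lemma epi_quotMap (V : Stab ρ) : Epi (quotMap V) :=
  epi_of_surjective_of_injective _ (surjective (isQuot_quotMap V)) (isQuot_quotMap V).injective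

lemma homOfLE_equivariant {V W : Stab ρ} (h : V.1 ≤ W.1) (g : G) :
    (act V g).hom ≫ X.homOfLE h = X.homOfLE h ≫ (act W g).hom := by
  rw [← cancel_mono W.1.ι, Category.assoc, Category.assoc, Scheme.homOfLE_ι, act_ι, act_ι,
    Scheme.homOfLE_ι_assoc]

lemma exists_quotTrans {V W : Stab ρ} (h : V ≤ W) :
    ∃ t : quotObj V ⟶ quotObj W, quotMap V ≫ t = X.homOfLE h ≫ quotMap W :=
  (desc_existsUnique_isQuot (isQuot_quotMap V) _ fun g => by
    rw [← Category.assoc, homOfLE_equivariant, Category.assoc, (isQuot_quotMap W).inv]).exists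

/-- The transition maps between quotients of stable affines. -/
noncomputable def quotTrans {V W : Stab ρ} (h : V ≤ W) : quotObj V ⟶ quotObj W :=
  (exists_quotTrans h).choose

@[reassoc]
lemma quotMap_quotTrans {V W : Stab ρ} (h : V ≤ W) :
    quotMap V ≫ quotTrans h = X.homOfLE h ≫ quotMap W :=
  (exists_quotTrans h).choose_spec

variable (ρ) in
/-- The diagram of quotients of stable affines. -/
noncomputable def quotDiagram : Stab ρ ⥤ Scheme.{u} where
  obj := quotObj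
  map f := quotTrans (leOfHom f)
  map_id V := by
    haveI := epi_quotMap V
    rw [← cancel_epi (quotMap V), quotMap_quotTrans, Category.comp_id, Scheme.homOfLE_rfl,
      Category.id_comp]
  map_comp {A B C} f g := by
    haveI := epi_quotMap A
    rw [← cancel_epi (quotMap A), quotMap_quotTrans, quotMap_quotTrans_assoc, quotMap_quotTrans,
      Scheme.homOfLE_homOfLE_assoc]

instance {V W : Stab ρ} (f : V ⟶ W) : IsOpenImmersion ((quotDiagram ρ).map f) :=
  isOpenImmersion_induced (isQuot_quotMap V) (isQuot_quotMap W) (X.homOfLE (leOfHom f))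
    (homOfLE_equivariant _) _ (quotMap_quotTrans _)

lemma act_apply_val (V : Stab ρ) (g : G) (v : V.1.toScheme) :
    ((act V g).hom v).1 = (ρ g).hom v.1 :=
  congr(($(act_ι V g)).base v)

lemma homOfLE_apply_val {V W : Stab ρ} (h : V ≤ W) (v : V.1.toScheme) :
    (X.homOfLE h v).1 = v.1 :=
  congr(($(X.homOfLE_ι h)).base v)

lemma exists_common (hρ : ∀ x : X, ∃ U : X.Opens, IsAffineOpen U ∧ ∀ g : G, (ρ g).hom x ∈ U)
    (V W : Stab ρ) (x : X) (hV : x ∈ V.1) (hW : x ∈ W.1) :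
    ∃ L : Stab ρ, L ≤ V ∧ L ≤ W ∧ x ∈ L.1 := by
  obtain ⟨U, hU, hxU⟩ := hρ x
  obtain ⟨L, hL, hLs, hxL, hle⟩ := exists_stable_affine ρ hU x hxU (V.1 ⊓ W.1)
    (fun g z hz => ⟨V.2.2 g hz.1, W.2.2 g hz.2⟩) ⟨hV, hW⟩
  exact ⟨⟨L, hL, hLs⟩, hle.trans inf_le_left, hle.trans inf_le_right, hxL⟩

lemma isLocallyDirected_quotDiagram
    (hρ : ∀ x : X, ∃ U : X.Opens, IsAffineOpen U ∧ ∀ g : G, (ρ g).hom x ∈ U) :
    (quotDiagram ρ ⋙ Scheme.forget).IsLocallyDirected := by
  constructor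
  intro V V' W fV fV' xV xV' hx
  obtain ⟨a, rfl⟩ := surjective (isQuot_quotMap V) xV
  obtain ⟨b, rfl⟩ := surjective (isQuot_quotMap V') xV'
  have hx' : quotTrans (leOfHom fV) (quotMap V a) = quotTrans (leOfHom fV') (quotMap V' b) := hx
  rw [show quotTrans (leOfHom fV) (quotMap V a) = quotMap W (X.homOfLE (leOfHom fV) a) from
      congr(($(quotMap_quotTrans (leOfHom fV))).base a),
    show quotTrans (leOfHom fV') (quotMap V' b) = quotMap W (X.homOfLE (leOfHom fV') b) from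
      congr(($(quotMap_quotTrans (leOfHom fV'))).base b)] at hx'
  obtain ⟨g, hg⟩ := (orbit_iff (isQuot_quotMap W) _ _).1 hx'
  have hg' : (ρ g).hom a.1 = b.1 := by
    have := congrArg Subtype.val hg
    rwa [act_apply_val, homOfLE_apply_val, homOfLE_apply_val] at this
  obtain ⟨L, hLV, hLV', hbL⟩ := exists_common hρ V V' b.1 (hg' ▸ V.2.2 g a.2) b.2
  refine ⟨L, homOfLE hLV, homOfLE hLV', quotMap L ⟨b.1, hbL⟩, ?_, ?_⟩
  · show quotTrans hLV (quotMap L ⟨b.1, hbL⟩) = quotMap V a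
    rw [show quotTrans hLV (quotMap L ⟨b.1, hbL⟩) = quotMap V (X.homOfLE hLV ⟨b.1, hbL⟩) from
      congr(($(quotMap_quotTrans hLV)).base (⟨b.1, hbL⟩ : L.1.toScheme))]
    refine ((orbit_iff (isQuot_quotMap V) _ _).2 ⟨g, Subtype.ext ?_⟩).symm
    rw [act_apply_val, homOfLE_apply_val, hg']
  · show quotTrans hLV' (quotMap L ⟨b.1, hbL⟩) = quotMap V' b
    rw [show quotTrans hLV' (quotMap L ⟨b.1, hbL⟩) = quotMap V' (X.homOfLE hLV' ⟨b.1, hbL⟩) from
      congr(($(quotMap_quotTrans hLV')).base (⟨b.1, hbL⟩ : L.1.toScheme))]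
    exact congrArg _ (Subtype.ext (homOfLE_apply_val hLV' _))

theorem exists_quotient (ρ : G →* Aut X)
    (hρ : ∀ x : X, ∃ U : X.Opens, IsAffineOpen U ∧ ∀ g : G, (ρ g).hom x ∈ U) :
    ∃ (Y : Scheme.{u}) (p : X ⟶ Y), SGA1.IsQuot ρ p := by
  haveI := isLocallyDirected_quotDiagram hρ
  let F := quotDiagram ρ
  let Y := colimit F
  let ι : ∀ V : Stab ρ, quotObj V ⟶ Y := fun V => colimit.ι F V
  haveI : ∀ V, IsOpenImmersion (ι V) := fun V =>
    inferInstanceAs (IsOpenImmersion (colimit.ι F V))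
  have hι : ∀ {L V : Stab ρ} (h : L ≤ V), quotTrans h ≫ ι V = ι L :=
    fun h => colimit.w F (homOfLE h)
  have hcov : IsOpenCover fun V : Stab ρ => V.1 := by
    refine IsOpenCover.mk (top_le_iff.mp fun x _ => ?_)
    obtain ⟨U, hU, hxU⟩ := hρ x
    obtain ⟨L, hL, hLs, hxL, -⟩ :=
      exists_stable_affine ρ hU x hxU ⊤ (fun _ _ _ => trivial) trivial
    exact Opens.mem_iSup.2 ⟨⟨L, hL, hLs⟩, hxL⟩
  let 𝒰 := X.openCoverOfIsOpenCover _ hcov
  have hcompat : ∀ V W : Stab ρ, pullback.fst V.1.ι W.1.ι ≫ quotMap V ≫ ι V =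
      pullback.snd V.1.ι W.1.ι ≫ quotMap W ≫ ι W := by
    intro V W
    rw [← cancel_epi (isPullback_opens_inf V.1 W.1).isoPullback.hom]
    simp only [IsPullback.isoPullback_hom_fst_assoc, IsPullback.isoPullback_hom_snd_assoc]
    have hcov' : IsOpenCover fun L : {L : Stab ρ // L ≤ V ∧ L ≤ W} =>
        (V.1 ⊓ W.1).ι ⁻¹ᵁ L.1.1 := by
      refine IsOpenCover.mk (top_le_iff.mp fun z _ => ?_)
      obtain ⟨L, hLV, hLW, hz⟩ := exists_common hρ V W z.1 z.2.1 z.2.2
      exact Opens.mem_iSup.2 ⟨⟨L, hLV, hLW⟩, hz⟩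
    refine ((V.1 ⊓ W.1).toScheme.openCoverOfIsOpenCover _ hcov').hom_ext _ _ fun ⟨L, hLV, hLW⟩ => ?_
    have hL : L.1 ≤ V.1 ⊓ W.1 := le_inf hLV hLW
    haveI : IsIso ((V.1 ⊓ W.1).ι ∣_ L.1) := by
      haveI : Epi ((V.1 ⊓ W.1).ι ∣_ L.1).base := by
        rw [TopCat.epi_iff_surjective]
        rintro ⟨x, hx⟩
        exact ⟨⟨⟨x, hL hx⟩, hx⟩, Subtype.ext
          (congr(($(morphismRestrict_ι (V.1 ⊓ W.1).ι L.1)).base ⟨⟨x, hL hx⟩, hx⟩))⟩
      exact IsOpenImmersion.isIso _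
    show ((V.1 ⊓ W.1).ι ⁻¹ᵁ L.1).ι ≫ _ = ((V.1 ⊓ W.1).ι ⁻¹ᵁ L.1).ι ≫ _
    have hL' : ((V.1 ⊓ W.1).ι ⁻¹ᵁ L.1).ι = ((V.1 ⊓ W.1).ι ∣_ L.1) ≫ X.homOfLE hL := by
      rw [← cancel_mono (V.1 ⊓ W.1).ι, Category.assoc, Scheme.homOfLE_ι, morphismRestrict_ι]
    rw [hL', Category.assoc, Category.assoc, Scheme.homOfLE_homOfLE_assoc,
      Scheme.homOfLE_homOfLE_assoc, ← quotMap_quotTrans_assoc, ← quotMap_quotTrans_assoc,
      hι, hι]
  let p : X ⟶ Y := 𝒰.glueMorphisms (fun V => quotMap V ≫ ι V) hcompat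
  have hp : ∀ V : Stab ρ, V.1.ι ≫ p = quotMap V ≫ ι V :=
    fun V => 𝒰.ι_glueMorphisms _ hcompat V
  have hinv : ∀ g, (ρ g).hom ≫ p = p := by
    intro g
    refine 𝒰.hom_ext _ _ fun V => ?_
    show V.1.ι ≫ (ρ g).hom ≫ p = V.1.ι ≫ p
    rw [← reassoc_of% act_ι V g, hp, reassoc_of% (isQuot_quotMap V).inv g]
  have hpre : ∀ V : Stab ρ, p ⁻¹ᵁ (ι V).opensRange = V.1 := by
    intro V
    refine le_antisymm (fun x hx => ?_) (fun x hx => ⟨quotMap V ⟨x, hx⟩,
      (congr(($(hp V)).base ⟨x, hx⟩)).symm⟩)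
    obtain ⟨v, hv⟩ := hx
    obtain ⟨W, hxW⟩ := Opens.mem_iSup.1 (hcov.iSup_eq_top.ge (show x ∈ (⊤ : X.Opens) from trivial))
    have h1 : p x = ι W (quotMap W ⟨x, hxW⟩) := congr(($(hp W)).base ⟨x, hxW⟩)
    obtain ⟨L, fV, fW, z, hzV, hzW⟩ :=
      (Scheme.IsLocallyDirected.ι_eq_ι_iff F (i := V) (j := W)).1 (hv.trans h1)
    obtain ⟨l, rfl⟩ := surjective (isQuot_quotMap L) z
    have h2 : quotMap W (X.homOfLE (leOfHom fW) l) = quotMap W ⟨x, hxW⟩ :=
      (congr(($(quotMap_quotTrans (leOfHom fW))).base l)).symm.trans hzW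
    obtain ⟨g, hg⟩ := (orbit_iff (isQuot_quotMap W) _ _).1 h2
    have hg' := congrArg Subtype.val hg
    rw [act_apply_val, homOfLE_apply_val] at hg'
    show x ∈ V.1
    exact (congrArg (· ∈ V.1) hg').mp (V.2.2 g (leOfHom fV l.2))
  have hyV : ∀ y : Y, ∃ V : Stab ρ, y ∈ (ι V).opensRange := by
    intro y
    obtain ⟨V, v, hv⟩ := Scheme.IsLocallyDirected.ι_jointly_surjective F y
    exact ⟨V, v, hv⟩
  have hOaff : ∀ V : Stab ρ, IsAffineOpen (ι V).opensRange := fun V =>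
    haveI : IsAffine (quotObj V) := inferInstanceAs (IsAffine (Spec _))
    isAffineOpen_opensRange _
  have haff : IsAffineHom p := by
    refine isAffineHom_of_forall_exists_isAffineOpen _ fun y => ?_
    obtain ⟨V, hV⟩ := hyV y
    exact ⟨_, hV, hOaff V, by rw [hpre V]; exact V.2.1⟩
  refine ⟨Y, p, isQuot_of_affine_cover haff hinv fun y => ?_⟩
  obtain ⟨V, hV⟩ := hyV y
  refine ⟨_, hOaff V, hV, ?_⟩
  have hVle : (⊤ : V.1.toScheme.Opens) ≤ V.1.ι ⁻¹ᵁ (p ⁻¹ᵁ (ι V).opensRange) := by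
    intro v _
    show v.1 ∈ p ⁻¹ᵁ (ι V).opensRange
    rw [hpre V]; exact v.2
  set α := V.1.ι.appLE (p ⁻¹ᵁ (ι V).opensRange) ⊤ hVle with hα
  have hαi : IsIso α := by
    haveI := V.1.ι.isIso_app (p ⁻¹ᵁ (ι V).opensRange) (by rw [hpre V, Scheme.Opens.opensRange_ι])
    have heq : (⊤ : V.1.toScheme.Opens) = V.1.ι ⁻¹ᵁ (p ⁻¹ᵁ (ι V).opensRange) :=
      le_antisymm hVle le_top
    haveI : IsIso (homOfLE hVle) := by
      rw [Subsingleton.elim (homOfLE hVle) (eqToHom heq)]; infer_instance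
    exact IsIso.comp_isIso
  set β := (ι V).appLE (ι V).opensRange ⊤ (fun v _ => ⟨v, rfl⟩) with hβ
  have hβi : IsIso β := by
    haveI := (ι V).isIso_app (ι V).opensRange le_rfl
    have heq : (⊤ : (quotObj V).Opens) = (ι V) ⁻¹ᵁ (ι V).opensRange :=
      le_antisymm (fun v _ => ⟨v, rfl⟩) le_top
    haveI : IsIso (homOfLE heq.le) := by
      rw [Subsingleton.elim (homOfLE heq.le) (eqToHom heq)]; infer_instance
    exact IsIso.comp_isIso
  have hsq : p.app (ι V).opensRange ≫ α = β ≫ (quotMap V).appTop := by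
    rw [hα, hβ, Scheme.Hom.app_eq_appLE, Scheme.Hom.appLE_comp_appLE]
    show _ = _ ≫ (quotMap V).app ⊤
    rw [Scheme.Hom.app_eq_appLE, Scheme.Hom.appLE_comp_appLE]
    exact appLE_congr_hom (hp V) _ _
  have hαb := ConcreteCategory.bijective_of_isIso α
  have hβb := ConcreteCategory.bijective_of_isIso β
  have hq := isQuot_quotMap V
  refine ⟨fun a b hab => ?_, fun s hs => ?_⟩
  · refine hβb.1 (hq.injective ⊤ ?_)
    exact (congr(($hsq).hom a)).symm.trans ((congrArg α.hom hab).trans congr(($hsq).hom b))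
  · have hfix : ∀ g : G, ((act V g).hom.appLE ((quotMap V) ⁻¹ᵁ ⊤) ((quotMap V) ⁻¹ᵁ ⊤)
        (SGA1.preimage_le_of_inv (act V) _ hq.inv g ⊤)).hom (α.hom s) = α.hom s := by
      intro g
      have e : (ρ g).hom.appLE _ _ (SGA1.preimage_le_of_inv ρ p hinv g (ι V).opensRange) ≫ α =
          α ≫ (act V g).hom.appLE ⊤ ⊤ (fun _ _ => trivial) := by
        rw [hα, Scheme.Hom.appLE_comp_appLE, Scheme.Hom.appLE_comp_appLE]
        exact appLE_congr_hom (act_ι V g).symm _ _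
      exact (congr(($e).hom s)).symm.trans (congrArg α.hom (hs g))
    obtain ⟨t, ht⟩ := (hq.range_iff ⊤ (α.hom s)).2 hfix
    obtain ⟨t', rfl⟩ := hβb.2 t
    exact ⟨t', hαb.1 ((congr(($hsq).hom t')).trans ht)⟩

end Glue

end SGA1Q
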