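import Mathlib.AlgebraicGeometry.Gluing
import Mathlib.AlgebraicGeometry.AffineScheme
import Mathlib.AlgebraicGeometry.PullbackCarrier

/-!
# Descending morphisms along a quotient map of schemes with injective sheaf map
-/

set_option autoImplicit false
universe u

open CategoryTheory CategoryTheory.Limits AlgebraicGeometry TopologicalSpace

namespace SGA1Q

variable {X Y Z : Scheme.{u}}

/-- `appLE` only depends on the morphism, not on the proof. -/
lemma appLE_congr_hom {f g : X ⟶ Y} (h : f = g) {U : Y.Opens} {V : X.Opens}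
    (e : V ≤ f ⁻¹ᵁ U) (e' : V ≤ g ⁻¹ᵁ U) : f.appLE U V e = g.appLE U V e' := by
  subst h; rfl

/-- A surjective morphism with injective sheaf maps is an epimorphism. -/
lemma epi_of_surjective_of_injective (p : X ⟶ Y) (hs : Function.Surjective p.base)
    (hinj : ∀ U : Y.Opens, Function.Injective (p.app U).hom) : Epi p := by
  constructor
  intro W f₁ f₂ h
  have hb : f₁.base = f₂.base := by
    ext y
    obtain ⟨x, rfl⟩ := hs y
    exact congr(($h).base x)
  refine Scheme.Hom.ext hb fun U => ?_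
  have e : f₂ ⁻¹ᵁ U ≤ f₁ ⁻¹ᵁ U := by
    intro y hy
    show f₁.base y ∈ U
    rw [hb]
    exact hy
  show f₁.appLE U (f₂ ⁻¹ᵁ U) e = f₂.app U
  have : Mono (p.app (f₂ ⁻¹ᵁ U)) := ConcreteCategory.mono_of_injective _ (hinj _)
  rw [← cancel_mono (p.app (f₂ ⁻¹ᵁ U)), Scheme.Hom.app_eq_appLE, Scheme.Hom.app_eq_appLE,
    Scheme.Hom.appLE_comp_appLE, Scheme.Hom.appLE_comp_appLE]
  exact appLE_congr_hom h _ _

lemma epi_morphismRestrict (p : X ⟶ Y) (hs : Function.Surjective p.base)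
    (hinj : ∀ U : Y.Opens, Function.Injective (p.app U).hom) (W : Y.Opens) : Epi (p ∣_ W) := by
  refine epi_of_surjective_of_injective _ ?_ ?_
  · rintro ⟨y, hy⟩
    obtain ⟨x, rfl⟩ := hs y
    exact ⟨⟨x, hy⟩, Subtype.ext (by exact congr(($(morphismRestrict_ι p W)).base ⟨x, hy⟩))⟩
  · intro V
    have : Function.Injective (p.app (W.ι ''ᵁ V)).hom := hinj _
    have hm : Mono (p.app (W.ι ''ᵁ V)) := ConcreteCategory.mono_of_injective _ this
    have : Mono ((p ∣_ W).app V) := by rw [morphismRestrict_app]; exact @mono_comp _ _ _ _ _ _ hm _ (@IsIso.mono_of_iso _ _ _ _ _ (Functor.map_isIso _ _))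
    exact (ConcreteCategory.mono_iff_injective_of_preservesPullback _).mp this

/-- Descent of a morphism along a topological quotient map with injective sheaf maps. -/
theorem desc_existsUnique (p : X ⟶ Y) (hq : Topology.IsQuotientMap p.base)
    (hinj : ∀ U : Y.Opens, Function.Injective (p.app U).hom) (h : X ⟶ Z)
    (hset : ∀ x x' : X, p x = p x' → h x = h x')
    (hrange : ∀ (V : Z.Opens), IsAffineOpen V → ∀ (U : Y.Opens) (hle : p ⁻¹ᵁ U ≤ h ⁻¹ᵁ V),
      ∀ s, (h.appLE V (p ⁻¹ᵁ U) hle).hom s ∈ Set.range (p.app U).hom) :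
    ∃! h' : Y ⟶ Z, p ≫ h' = h := by
  haveI : Epi p := epi_of_surjective_of_injective p hq.surjective hinj
  refine existsUnique_of_exists_of_unique ?_ fun a b ha hb => (cancel_epi p).1 (ha.trans hb.symm)
  classical
  -- the set-theoretic factorisation
  let g : Y → Z := fun y => h (Function.surjInv hq.surjective y)
  have hgp : ∀ x : X, g (p x) = h x := fun x =>
    hset _ _ (Function.surjInv_eq hq.surjective (p x))
  have hgc : Continuous g := by
    rw [hq.continuous_iff]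
    have : g ∘ p.base = h.base := funext hgp
    rw [this]
    exact h.base.hom.continuous
  let U : Z.affineOpens → Y.Opens := fun V => ⟨g ⁻¹' (V.1 : Set Z), V.1.2.preimage hgc⟩
  have hpre : ∀ V, p ⁻¹ᵁ U V = h ⁻¹ᵁ V.1 := fun V => Opens.ext <| Set.ext fun x => by
    show g (p x) ∈ V.1 ↔ h x ∈ V.1
    rw [hgp]
  have hcov : IsOpenCover U := by
    refine IsOpenCover.mk (top_le_iff.mp fun y _ => ?_)
    obtain ⟨V, hV, hyV, -⟩ := exists_isAffineOpen_mem_and_subset (x := g y) (U := ⊤) trivial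
    exact Opens.mem_iSup.2 ⟨⟨V, hV⟩, hyV⟩
  have hex : ∀ V : Z.affineOpens, ∃ φ : (U V).toScheme ⟶ Z,
      (p ∣_ U V) ≫ φ = (p ⁻¹ᵁ U V).ι ≫ h := by
    intro V
    let a : Γ(Z, V.1) ⟶ Γ(X, p ⁻¹ᵁ U V) := h.appLE V.1 (p ⁻¹ᵁ U V) (hpre V).le
    choose t ht using fun s => hrange V.1 V.2 (U V) (hpre V).le s
    let ψ : Γ(Z, V.1) →+* Γ(Y, U V) :=
      { toFun := t
        map_one' := hinj _ (by rw [ht, map_one, map_one])
        map_mul' := fun x y => hinj _ (by rw [ht, map_mul, map_mul, ht, ht])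
        map_zero' := hinj _ (by rw [ht, map_zero, map_zero])
        map_add' := fun x y => hinj _ (by rw [ht, map_add, map_add, ht, ht]) }
    have hψ : CommRingCat.ofHom ψ ≫ p.app (U V) = a := by
      ext s; exact ht s
    refine ⟨(U V).toSpecΓ ≫ Spec.map (CommRingCat.ofHom ψ) ≫ V.2.fromSpec, ?_⟩
    have h1 : (p ∣_ U V) ≫ (U V).toSpecΓ = (p ⁻¹ᵁ U V).toSpecΓ ≫ Spec.map (p.app (U V)) := by
      rw [Scheme.Hom.app_eq_appLE, Scheme.Opens.toSpecΓ_SpecMap_appLE,
        Scheme.Hom.resLE_eq_morphismRestrict]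
    rw [reassoc_of% h1, ← Spec.map_comp_assoc, hψ]
    show (p ⁻¹ᵁ U V).toSpecΓ ≫ Spec.map (h.appLE V.1 _ _) ≫ V.2.fromSpec = _
    rw [Scheme.Opens.toSpecΓ_SpecMap_appLE_assoc, IsAffineOpen.toSpecΓ_fromSpec,
      Scheme.Hom.resLE_comp_ι]
  choose φ hφ using hex
  have hcompat : ∀ V W : Z.affineOpens,
      pullback.fst (U V).ι (U W).ι ≫ φ V = pullback.snd (U V).ι (U W).ι ≫ φ W := by
    intro V W
    rw [← cancel_epi (isPullback_opens_inf (U V) (U W)).isoPullback.hom]
    simp only [IsPullback.isoPullback_hom_fst_assoc, IsPullback.isoPullback_hom_snd_assoc]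
    haveI := epi_morphismRestrict p hq.surjective hinj (U V ⊓ U W)
    rw [← cancel_epi (p ∣_ (U V ⊓ U W)), morphismRestrict_homOfLE_assoc,
      morphismRestrict_homOfLE_assoc, hφ, hφ, Scheme.homOfLE_ι_assoc, Scheme.homOfLE_ι_assoc]
  refine ⟨(Y.openCoverOfIsOpenCover U hcov).glueMorphisms φ hcompat, ?_⟩
  have hcov' : IsOpenCover fun V => p ⁻¹ᵁ U V := by
    refine IsOpenCover.mk (top_le_iff.mp fun x _ => ?_)
    obtain ⟨V, hV⟩ := Opens.mem_iSup.1 (hcov.iSup_eq_top.ge (show p x ∈ (⊤ : Y.Opens) from trivial))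
    exact Opens.mem_iSup.2 ⟨V, hV⟩
  refine (X.openCoverOfIsOpenCover _ hcov').hom_ext _ _ fun V => ?_
  have := (Y.openCoverOfIsOpenCover U hcov).ι_glueMorphisms φ hcompat V
  change (U V).ι ≫ _ = φ V at this
  change (p ⁻¹ᵁ U V).ι ≫ p ≫ _ = (p ⁻¹ᵁ U V).ι ≫ h
  rw [← morphismRestrict_ι_assoc p (U V), this]
  exact hφ V

end SGA1Q
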