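import Groth.Prelude.Def_SGA1
import Groth.Agent.SGA1Q.Desc
import Mathlib.RingTheory.Invariant.Basic
import Mathlib.AlgebraicGeometry.Morphisms.Integral
import Mathlib.AlgebraicGeometry.Morphisms.UniversallyClosed

/-!
# Quotients by finite groups: integrality, orbits, locality
-/

set_option autoImplicit false
universe u

open CategoryTheory CategoryTheory.Limits AlgebraicGeometry TopologicalSpace
open scoped Pointwise

namespace SGA1Q

variable {X Y : Scheme.{u}} {G : Type u} [Group G] (ρ : G →* Aut X)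

lemma hom_mul (g g' : G) : (ρ (g * g')).hom = (ρ g').hom ≫ (ρ g).hom := by
  rw [map_mul, Aut.Aut_mul_def]
  rfl

lemma hom_one : (ρ 1).hom = 𝟙 X := by
  rw [map_one]
  rfl

/-- The action on sections over a stable open, `g • a = (ρ g⁻¹)^* a`. -/
@[implicit_reducible]
noncomputable def secAction (O : X.Opens) (hO : ∀ g : G, O ≤ (ρ g).hom ⁻¹ᵁ O) :
    MulSemiringAction G Γ(X, O) where
  smul g a := ((ρ g⁻¹).hom.appLE O O (hO _)).hom a
  one_smul a := by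
    show ((ρ (1 : G)⁻¹).hom.appLE O O (hO _)).hom a = a
    rw [appLE_congr_hom (show (ρ (1 : G)⁻¹).hom = 𝟙 X by rw [inv_one, hom_one]) (hO _) le_rfl]
    simp [Scheme.Hom.appLE]
    exact congr(($(X.presheaf.map_id _)).hom a)
  mul_smul g g' a := by
    show ((ρ (g * g')⁻¹).hom.appLE O O (hO _)).hom a =
      ((ρ g⁻¹).hom.appLE O O (hO _)).hom (((ρ g'⁻¹).hom.appLE O O (hO _)).hom a)
    rw [← RingHom.comp_apply, ← CommRingCat.hom_comp, Scheme.Hom.appLE_comp_appLE,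
      appLE_congr_hom (show (ρ (g * g')⁻¹).hom = (ρ g⁻¹).hom ≫ (ρ g'⁻¹).hom by
        rw [mul_inv_rev, hom_mul]) (hO _)]
  smul_zero g := map_zero ((ρ g⁻¹).hom.appLE O O (hO _)).hom
  smul_add g := map_add ((ρ g⁻¹).hom.appLE O O (hO _)).hom
  smul_one g := map_one ((ρ g⁻¹).hom.appLE O O (hO _)).hom
  smul_mul g := map_mul ((ρ g⁻¹).hom.appLE O O (hO _)).hom

variable {ρ} {p : X ⟶ Y}

lemma range_appLE_iff (hp : SGA1.IsQuot ρ p) (U : Y.Opens) (O : X.Opens) (h : O = p ⁻¹ᵁ U)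
    (s : Γ(X, O)) :
    s ∈ Set.range (p.appLE U O h.le).hom ↔
      ∀ (g : G) (e : O ≤ (ρ g).hom ⁻¹ᵁ O), ((ρ g).hom.appLE O O e).hom s = s := by
  subst h
  rw [← Scheme.Hom.app_eq_appLE, hp.range_iff U s]
  exact ⟨fun h g _ => h g, fun h g => h g _⟩

lemma appLE_app_of_inv (hinv : ∀ g : G, (ρ g).hom ≫ p = p) (U : Y.Opens) (g : G)
    (t : Γ(Y, U)) :
    ((ρ g).hom.appLE (p ⁻¹ᵁ U) (p ⁻¹ᵁ U) (SGA1.preimage_le_of_inv ρ p hinv g U)).hom
      ((p.app U).hom t) = (p.app U).hom t := by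
  rw [← RingHom.comp_apply, ← CommRingCat.hom_comp, Scheme.Hom.app_eq_appLE,
    Scheme.Hom.appLE_comp_appLE, appLE_congr_hom (hinv g) _ le_rfl]

/-- Over an affine open, a quotient is the ring of invariants: integral and transitive on fibres. -/
lemma isInvariant_of_isQuot (hp : SGA1.IsQuot ρ p) (U : Y.Opens) :
    letI := secAction ρ (p ⁻¹ᵁ U) (fun g => SGA1.preimage_le_of_inv ρ p hp.inv g U)
    letI := (p.app U).hom.toAlgebra
    SMulCommClass G Γ(Y, U) Γ(X, p ⁻¹ᵁ U) ∧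
      Algebra.IsInvariant Γ(Y, U) Γ(X, p ⁻¹ᵁ U) G := by
  letI := secAction ρ (p ⁻¹ᵁ U) (fun g => SGA1.preimage_le_of_inv ρ p hp.inv g U)
  letI := (p.app U).hom.toAlgebra
  refine ⟨⟨fun g b a => ?_⟩, ⟨fun a ha => ?_⟩⟩
  · rw [Algebra.smul_def, Algebra.smul_def, smul_mul']
    congr 1
    exact appLE_app_of_inv hp.inv U g⁻¹ b
  · obtain ⟨t, ht⟩ := (hp.range_iff U a).2 fun g => by
      have e := ha g⁻¹
      rw [← inv_inv g]
      exact e
    exact ⟨t, ht⟩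

theorem isIntegralHom [Finite G] (hp : SGA1.IsQuot ρ p) : IsIntegralHom p := by
  haveI := hp.affine
  constructor
  intro U hU
  letI := secAction ρ (p ⁻¹ᵁ U) (fun g => SGA1.preimage_le_of_inv ρ p hp.inv g U)
  letI := (p.app U).hom.toAlgebra
  obtain ⟨h1, h2⟩ := isInvariant_of_isQuot hp U
  exact fun a => (Algebra.IsInvariant.isIntegral Γ(Y, U) Γ(X, p ⁻¹ᵁ U) G).isIntegral a

theorem surjective [Finite G] (hp : SGA1.IsQuot ρ p) : Function.Surjective p.base := by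
  haveI := hp.affine
  haveI := isIntegralHom hp
  intro y
  obtain ⟨U, hU, hyU, -⟩ := exists_isAffineOpen_mem_and_subset (x := y) (U := ⊤) trivial
  have hA : IsAffineOpen (p ⁻¹ᵁ U) := hU.preimage p
  obtain ⟨b, rfl⟩ : y ∈ Set.range hU.fromSpec := by rw [hU.range_fromSpec]; exact hyU
  obtain ⟨q, hq⟩ := (p.isIntegral_app U hU).comap_surjective (hp.injective U) b
  refine ⟨hA.fromSpec q, ?_⟩
  have e := IsAffineOpen.SpecMap_appLE_fromSpec p hU hA le_rfl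
  rw [← Scheme.Hom.app_eq_appLE] at e
  have e' := congr(($e).base q)
  rw [← hq]
  exact e'.symm

theorem orbit_iff [Finite G] (hp : SGA1.IsQuot ρ p) (x x' : X) :
    p x = p x' ↔ ∃ g : G, (ρ g).hom x = x' := by
  constructor
  swap
  · rintro ⟨g, rfl⟩
    exact (congr(($(hp.inv g)).base x)).symm
  intro h
  haveI := hp.affine
  obtain ⟨U, hU, hxU, -⟩ := exists_isAffineOpen_mem_and_subset (x := p x) (U := ⊤) trivial
  have hA : IsAffineOpen (p ⁻¹ᵁ U) := hU.preimage p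
  obtain ⟨q, rfl⟩ : x ∈ Set.range hA.fromSpec := by rw [hA.range_fromSpec]; exact hxU
  obtain ⟨q', rfl⟩ : x' ∈ Set.range hA.fromSpec := by
    rw [hA.range_fromSpec]
    show p x' ∈ U
    exact h ▸ hxU
  have e := IsAffineOpen.SpecMap_appLE_fromSpec p hU hA le_rfl
  rw [← Scheme.Hom.app_eq_appLE] at e
  have e1 := congr(($e).base q)
  have e2 := congr(($e).base q')
  have heq : Spec.map (p.app U) q = Spec.map (p.app U) q' :=
    hU.fromSpec.isOpenEmbedding.injective (e1.trans (h.trans e2.symm))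
  letI := secAction ρ (p ⁻¹ᵁ U) (fun g => SGA1.preimage_le_of_inv ρ p hp.inv g U)
  letI := (p.app U).hom.toAlgebra
  obtain ⟨h1, h2⟩ := isInvariant_of_isQuot hp U
  haveI : q.asIdeal.IsPrime := q.2
  haveI : q'.asIdeal.IsPrime := q'.2
  obtain ⟨g, hg⟩ := Algebra.IsInvariant.exists_smul_of_under_eq Γ(Y, U) Γ(X, p ⁻¹ᵁ U) G
    q.asIdeal q'.asIdeal (congrArg PrimeSpectrum.asIdeal heq)
  refine ⟨g, ?_⟩
  have e3 := congr(($(IsAffineOpen.SpecMap_appLE_fromSpec (ρ g).hom hA hA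
    (SGA1.preimage_le_of_inv ρ p hp.inv g U))).base q)
  refine e3.symm.trans (congrArg hA.fromSpec (PrimeSpectrum.ext ?_))
  rw [hg]
  ext a
  rw [Ideal.mem_pointwise_smul_iff_inv_smul_mem]
  show _ ↔ ((ρ g⁻¹⁻¹).hom.appLE _ _ _).hom a ∈ q.asIdeal
  simp only [inv_inv]
  rfl

theorem isQuotientMap [Finite G] (hp : SGA1.IsQuot ρ p) : Topology.IsQuotientMap p.base := by
  haveI := isIntegralHom hp
  exact p.isClosedMap.isQuotientMap p.continuous (surjective hp)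

theorem desc_existsUnique_isQuot [Finite G] (hp : SGA1.IsQuot ρ p) {Z : Scheme.{u}} (h : X ⟶ Z)
    (hh : ∀ g : G, (ρ g).hom ≫ h = h) : ∃! h' : Y ⟶ Z, p ≫ h' = h := by
  refine desc_existsUnique p (isQuotientMap hp) hp.injective h (fun x x' e => ?_)
    (fun V _ U hle s => (hp.range_iff U _).2 fun g => ?_)
  · obtain ⟨g, rfl⟩ := (orbit_iff hp x x').1 e
    exact (congr(($(hh g)).base x)).symm
  · rw [← RingHom.comp_apply, ← CommRingCat.hom_comp, Scheme.Hom.appLE_comp_appLE,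
      appLE_congr_hom (hh g) _ hle]

/-- The restriction of a quotient over an open of the base is a quotient. -/
theorem isQuot_morphismRestrict (hp : SGA1.IsQuot ρ p) (U : Y.Opens)
    (ρU : G →* Aut (p ⁻¹ᵁ U).toScheme)
    (hρU : ∀ g : G, (ρU g).hom ≫ (p ⁻¹ᵁ U).ι = (p ⁻¹ᵁ U).ι ≫ (ρ g).hom) :
    SGA1.IsQuot ρU (p ∣_ U) := by
  haveI := hp.affine
  have hinv : ∀ g : G, (ρU g).hom ≫ (p ∣_ U) = p ∣_ U := fun g => by
    rw [← cancel_mono U.ι, Category.assoc, morphismRestrict_ι, reassoc_of% hρU g, hp.inv g]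
  have hmono : ∀ V, Function.Injective ((p ∣_ U).app V).hom := fun V => by
    haveI : Mono (p.app (U.ι ''ᵁ V)) :=
      ConcreteCategory.mono_of_injective _ (hp.injective _)
    haveI : IsIso (X.presheaf.map (eqToHom (image_morphismRestrict_preimage p U V)).op) :=
      Functor.map_isIso _ _
    have : Mono ((p ∣_ U).app V) := by
      rw [morphismRestrict_app]
      exact @mono_comp _ _ _ _ _ _ (ConcreteCategory.mono_of_injective _ (hp.injective _)) _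
        (@IsIso.mono_of_iso _ _ _ _ _ (Functor.map_isIso _ _))
    exact (ConcreteCategory.mono_iff_injective_of_preservesPullback _).mp this
  refine ⟨IsZariskiLocalAtTarget.restrict hp.affine U, hinv, hmono, fun V s => ?_⟩
  have key : (p ∣_ U).app V = p.appLE (U.ι ''ᵁ V) ((p ⁻¹ᵁ U).ι ''ᵁ ((p ∣_ U) ⁻¹ᵁ V))
      (image_morphismRestrict_preimage p U V).le := morphismRestrict_app p U V
  rw [key]
  refine (range_appLE_iff hp _ _ (image_morphismRestrict_preimage p U V) s).trans ?_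
  have key2 : ∀ (g : G) (W : (p ⁻¹ᵁ U).toScheme.Opens) (e1 : W ≤ (ρU g).hom ⁻¹ᵁ W)
      (e2 : (p ⁻¹ᵁ U).ι ''ᵁ W ≤ (ρ g).hom ⁻¹ᵁ ((p ⁻¹ᵁ U).ι ''ᵁ W)),
      (ρU g).hom.appLE W W e1 =
        (ρ g).hom.appLE ((p ⁻¹ᵁ U).ι ''ᵁ W) ((p ⁻¹ᵁ U).ι ''ᵁ W) e2 := by
    intro g W e1 e2
    have hid : ∀ (e : W ≤ (p ⁻¹ᵁ U).ι ⁻¹ᵁ ((p ⁻¹ᵁ U).ι ''ᵁ W)),
        (p ⁻¹ᵁ U).ι.appLE ((p ⁻¹ᵁ U).ι ''ᵁ W) W e = 𝟙 Γ(X, (p ⁻¹ᵁ U).ι ''ᵁ W) := by
      intro e
      rw [Scheme.Opens.ι_appLE]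
      exact X.presheaf.map_id _
    have e0 : W ≤ ((ρU g).hom ≫ (p ⁻¹ᵁ U).ι) ⁻¹ᵁ ((p ⁻¹ᵁ U).ι ''ᵁ W) := by
      rw [Scheme.Hom.comp_preimage, (p ⁻¹ᵁ U).ι.preimage_image_eq]
      exact e1
    have h := appLE_congr_hom (hρU g) (U := (p ⁻¹ᵁ U).ι ''ᵁ W) (V := W) e0 (hρU g ▸ e0)
    rw [← Scheme.Hom.appLE_comp_appLE (ρU g).hom (p ⁻¹ᵁ U).ι _ W W
        ((p ⁻¹ᵁ U).ι.preimage_image_eq W).ge e1,
      ← Scheme.Hom.appLE_comp_appLE (p ⁻¹ᵁ U).ι (ρ g).hom _ ((p ⁻¹ᵁ U).ι ''ᵁ W) W e2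
        ((p ⁻¹ᵁ U).ι.preimage_image_eq W).ge, hid] at h
    exact h
  constructor
  · intro h g
    rw [key2 g _ _ (by rw [image_morphismRestrict_preimage]; exact SGA1.preimage_le_of_inv ρ p hp.inv g _)]
    exact h g _
  · intro h g e
    rw [← key2 g _ (SGA1.preimage_le_of_inv ρU _ hinv g V) e]
    exact h g

/-- A criterion for being a quotient, checked on a basis of opens of the target. -/
theorem isQuot_of_basis {ρ : G →* Aut X} {p : X ⟶ Y} (haff : IsAffineHom p)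
    (hinv : ∀ g : G, (ρ g).hom ≫ p = p) (S : Set Y.Opens) (hS : Opens.IsBasis S)
    (hinj : ∀ U ∈ S, Function.Injective (p.app U).hom)
    (hrange : ∀ U ∈ S, ∀ s : Γ(X, p ⁻¹ᵁ U),
      (∀ g : G, ((ρ g).hom.appLE (p ⁻¹ᵁ U) (p ⁻¹ᵁ U)
        (SGA1.preimage_le_of_inv ρ p hinv g U)).hom s = s) → s ∈ Set.range (p.app U).hom) :
    SGA1.IsQuot ρ p := by
  classical
  have hnat : ∀ {U V : Y.Opens} (h : V ≤ U) (t : Γ(Y, U)),
      (p.app V).hom ((Y.presheaf.map (homOfLE h).op).hom t) =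
        (X.presheaf.map (homOfLE (p.preimage_mono h)).op).hom ((p.app U).hom t) := by
    intro U V h t
    exact congr(($(p.naturality (homOfLE h).op)).hom t)
  have hinj' : ∀ U : Y.Opens, Function.Injective (p.app U).hom := by
    intro U a b hab
    obtain ⟨T, hTS, hT⟩ := Opens.isBasis_iff_cover.1 hS U
    refine Y.sheaf.eq_of_locally_eq' (fun V : T => V.1) U
      (fun V => homOfLE ((le_sSup V.2).trans hT.ge)) (by rw [hT, sSup_eq_iSup']) a b fun V => ?_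
    refine hinj V.1 (hTS V.2) ((hnat ((le_sSup V.2).trans hT.ge) a).trans ?_)
    rw [hab]
    exact (hnat _ b).symm
  refine ⟨haff, hinv, hinj', fun U s => ⟨?_, fun hs => ?_⟩⟩
  · rintro ⟨t, rfl⟩ g
    exact appLE_app_of_inv hinv U g t
  obtain ⟨T, hTS, hT⟩ := Opens.isBasis_iff_cover.1 hS U
  have hle : ∀ V : T, V.1 ≤ U := fun V => (le_sSup V.2).trans hT.ge
  have hres : ∀ V : T, ∃ t, (p.app V.1).hom t =
      (X.presheaf.map (homOfLE (p.preimage_mono (hle V))).op).hom s := by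
    intro V
    refine hrange V.1 (hTS V.2) _ fun g => ?_
    have e1 := SGA1.preimage_le_of_inv ρ p hinv g U
    have e2 := SGA1.preimage_le_of_inv ρ p hinv g V.1
    have : X.presheaf.map (homOfLE (p.preimage_mono (hle V))).op ≫
        (ρ g).hom.appLE _ _ e2 =
          (ρ g).hom.appLE _ _ e1 ≫ X.presheaf.map (homOfLE (p.preimage_mono (hle V))).op := by
      rw [Scheme.Hom.map_appLE, Scheme.Hom.appLE_map]
    refine congr(($this).hom s).trans ?_
    exact congrArg _ (hs g)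
  choose t ht using hres
  obtain ⟨t₀, ht₀, -⟩ := Y.sheaf.existsUnique_gluing' (fun V : T => V.1) U
    (fun V => homOfLE (hle V)) (by rw [hT, sSup_eq_iSup']) t fun V W => by
      refine hinj' (V.1 ⊓ W.1) ?_
      refine ((hnat inf_le_left (t V)).trans ?_).trans (hnat inf_le_right (t W)).symm
      rw [ht, ht, ← RingHom.comp_apply, ← RingHom.comp_apply, ← CommRingCat.hom_comp,
        ← CommRingCat.hom_comp, ← Functor.map_comp, ← Functor.map_comp]
      rfl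
  refine ⟨t₀, X.sheaf.eq_of_locally_eq' (fun V : T => p ⁻¹ᵁ V.1) (p ⁻¹ᵁ U)
    (fun V => homOfLE (p.preimage_mono (hle V))) ?_ _ _ fun V => ?_⟩
  · intro x hx
    obtain ⟨V, hV, hxV⟩ := Opens.mem_sSup.1 (hT.le hx)
    exact Opens.mem_iSup.2 ⟨⟨V, hV⟩, hxV⟩
  · refine ((hnat (hle V) t₀).symm.trans ?_).trans (ht V)
    exact congrArg _ (ht₀ V)

end SGA1Q
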