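import Mathlib.AlgebraicGeometry.ResidueField
import Mathlib.AlgebraicGeometry.PullbackCarrier
import Mathlib.FieldTheory.Normal.Basic
import Mathlib.FieldTheory.IsAlgClosed.AlgebraicClosure

/-!
# Transitivity on geometric points
-/

set_option autoImplicit false
universe u

open CategoryTheory CategoryTheory.Limits AlgebraicGeometry

namespace SGA1Q

lemma exists_algEquiv_of_normal {K L Ω : Type*} [Field K] [Field L] [Field Ω] [Algebra K L]
    [Algebra K Ω] [Normal K L] (i j : L →ₐ[K] Ω) : ∃ σ : L ≃ₐ[K] L, ∀ x, i (σ x) = j x := by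
  let e := AlgEquiv.ofInjectiveField i
  haveI : Normal K i.fieldRange := Normal.of_algEquiv e
  have hmem : ∀ x, j x ∈ i.fieldRange := fun x =>
    (AlgHom.fieldRange_of_normal (j.comp e.symm.toAlgHom)).le
      ⟨e x, congrArg j (e.symm_apply_apply x)⟩
  let s : L →ₐ[K] L := e.symm.toAlgHom.comp (j.codRestrict i.fieldRange.toSubalgebra hmem)
  refine ⟨AlgEquiv.ofBijective s (Algebra.IsAlgebraic.algHom_bijective s), fun x => ?_⟩
  show i (e.symm _) = j x
  exact congrArg Subtype.val (e.apply_symm_apply _)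

variable {X S : Scheme.{u}} (q : X ⟶ S) {G : Type u} [Group G] (ρ : G →* Aut X)

theorem geomTransitive (hρ : ∀ g : G, (ρ g).hom ≫ q = q)
    (h1 : ∀ x y : X, q x = q y → ∃ g : G, (ρ g).hom x = y)
    (h2 : ∀ x : X, @Normal (S.residueField (q x)) (X.residueField x) _ _
      (q.residueFieldMap x).hom.toAlgebra)
    (h3 : ∀ (x : X) (σ : X.residueField x ≅ X.residueField x),
      q.residueFieldMap x ≫ σ.hom = q.residueFieldMap x →
      ∃ g : G, X.fromSpecResidueField x ≫ (ρ g).hom = Spec.map σ.hom ≫ X.fromSpecResidueField x)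
    (Ω : Type u) [Field Ω] [IsAlgClosed Ω] (τ₁ τ₂ : Spec (CommRingCat.of Ω) ⟶ X)
    (hτ : τ₁ ≫ q = τ₂ ≫ q) : ∃ g : G, τ₁ ≫ (ρ g).hom = τ₂ := by
  let pt : Spec (CommRingCat.of Ω) := IsLocalRing.closedPoint Ω
  obtain ⟨g₀, hg₀⟩ := h1 (τ₁ pt) (τ₂ pt) congr(($hτ).base pt)
  have hτ' : (τ₁ ≫ (ρ g₀).hom) ≫ q = τ₂ ≫ q := by rw [Category.assoc, hρ, hτ]
  obtain ⟨⟨x, i₁⟩, rfl⟩ := (Scheme.SpecToEquivOfField Ω X).symm.surjective τ₂
  obtain ⟨⟨x₁, i₂⟩, hi₂⟩ := (Scheme.SpecToEquivOfField Ω X).symm.surjective (τ₁ ≫ (ρ g₀).hom)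
  have hx : x₁ = x := by
    have e1 := congr(($hi₂).base pt)
    have e2 : ∀ (y : X) (i : X.residueField y ⟶ CommRingCat.of Ω),
        ((Scheme.SpecToEquivOfField Ω X).symm ⟨y, i⟩) pt = y :=
      fun y i => Scheme.fromSpecResidueField_apply y _
    rw [e2] at e1
    exact e1.trans (hg₀.trans (e2 x i₁))
  subst hx
  rw [← hi₂] at hτ'
  change (Spec.map i₂ ≫ X.fromSpecResidueField x₁) ≫ q =
    (Spec.map i₁ ≫ X.fromSpecResidueField x₁) ≫ q at hτ'
  rw [Category.assoc, Category.assoc, ← q.SpecMap_residueFieldMap_fromSpecResidueField,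
    ← Spec.map_comp_assoc, ← Spec.map_comp_assoc, cancel_mono, Spec.map_inj] at hτ'
  letI := (q.residueFieldMap x₁).hom.toAlgebra
  letI : Algebra (S.residueField (q x₁)) Ω := (q.residueFieldMap x₁ ≫ i₂).hom.toAlgebra
  haveI := h2 x₁
  let a₂ : X.residueField x₁ →ₐ[S.residueField (q x₁)] Ω := ⟨i₂.hom, fun _ => rfl⟩
  let a₁ : X.residueField x₁ →ₐ[S.residueField (q x₁)] Ω :=
    ⟨i₁.hom, fun k => congr(($(hτ'.symm)).hom k)⟩
  obtain ⟨σ, hσ⟩ := exists_algEquiv_of_normal a₂ a₁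
  obtain ⟨g, hg⟩ := h3 x₁ σ.toRingEquiv.toCommRingCatIso (by
    ext k
    exact σ.commutes k)
  refine ⟨g * g₀, ?_⟩
  rw [map_mul, Aut.Aut_mul_def]
  show τ₁ ≫ (ρ g₀).hom ≫ (ρ g).hom = Spec.map i₁ ≫ X.fromSpecResidueField x₁
  rw [← Category.assoc, ← hi₂]
  show (Spec.map i₂ ≫ X.fromSpecResidueField x₁) ≫ (ρ g).hom = _
  rw [Category.assoc, hg, ← Spec.map_comp_assoc]
  congr 2
  ext k
  exact hσ k

/-- Transitivity on geometric points gives transitivity on the fibres. -/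
theorem exists_smul_eq_of_geomTransitive
    (htrans : ∀ (Ω : Type u) [Field Ω] [IsAlgClosed Ω] (τ₁ τ₂ : Spec (CommRingCat.of Ω) ⟶ X),
      τ₁ ≫ q = τ₂ ≫ q → ∃ g : G, τ₁ ≫ (ρ g).hom = τ₂)
    (x y : X) (h : q x = q y) : ∃ g : G, (ρ g).hom x = y := by
  obtain ⟨z, hz₁, hz₂⟩ := Scheme.Pullback.exists_preimage_pullback x y h
  let Ω := AlgebraicClosure ((pullback q q).residueField z)
  let τ : Spec (CommRingCat.of Ω) ⟶ pullback q q :=
    Spec.map (CommRingCat.ofHom (algebraMap ((pullback q q).residueField z) Ω)) ≫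
      (pullback q q).fromSpecResidueField z
  obtain ⟨g, hg⟩ := htrans Ω (τ ≫ pullback.fst q q) (τ ≫ pullback.snd q q)
    (by simp only [τ, Category.assoc, pullback.condition])
  refine ⟨g, ?_⟩
  have e := congr(($hg).base (IsLocalRing.closedPoint Ω))
  have hτ : τ (IsLocalRing.closedPoint Ω) = z := Scheme.fromSpecResidueField_apply z _
  subst hz₁ hz₂
  rw [← hτ]
  exact e

end SGA1Q
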