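import Groth.Agent.SGA1Q.Orbits
import Mathlib.RingTheory.Invariant.Galois
import Mathlib.AlgebraicGeometry.ResidueField

/-!
# Residue fields along a quotient by a finite group: normality and the decomposition group
-/

set_option autoImplicit false
universe u

open CategoryTheory CategoryTheory.Limits AlgebraicGeometry TopologicalSpace
open scoped Pointwise

namespace SGA1Q

variable {X Y : Scheme.{u}}

/-- On an affine open the residue field is the fraction field of the sections mod the kernel. -/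
lemma isFractionRing_evaluation {V : X.Opens} (hV : IsAffineOpen V) (x : X) (hx : x ∈ V) :
    letI := (RingHom.kerLift (X.evaluation V x hx).hom).toAlgebra
    IsFractionRing (Γ(X, V) ⧸ RingHom.ker (X.evaluation V x hx).hom) (X.residueField x) := by
  letI := (RingHom.kerLift (X.evaluation V x hx).hom).toAlgebra
  haveI : (RingHom.ker (X.evaluation V x hx).hom).IsPrime := RingHom.ker_isPrime _
  haveI : FaithfulSMul (Γ(X, V) ⧸ RingHom.ker (X.evaluation V x hx).hom) (X.residueField x) :=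
    (faithfulSMul_iff_algebraMap_injective _ _).2 (RingHom.kerLift_injective _)
  refine IsFractionRing.of_field _ _ fun z => ?_
  letI := TopCat.Presheaf.algebra_section_stalk X.presheaf (⟨x, hx⟩ : V)
  haveI := hV.isLocalization_stalk ⟨x, hx⟩
  obtain ⟨w, rfl⟩ := Scheme.residue_surjective X x z
  obtain ⟨⟨a, s⟩, has⟩ := IsLocalization.surj (hV.primeIdealOf ⟨x, hx⟩).asIdeal.primeCompl w
  have hu : IsUnit (X.evaluation V x hx s.1) :=
    (IsLocalization.map_units (X.presheaf.stalk x) s).map (X.residue x).hom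
  refine ⟨Ideal.Quotient.mk _ a, Ideal.Quotient.mk _ s.1, ?_⟩
  show X.residue x w = X.evaluation V x hx a / X.evaluation V x hx s.1
  rw [eq_div_iff hu.ne_zero]
  exact (map_mul (X.residue x).hom _ _).symm.trans (congrArg (X.residue x).hom has)

/-- Points of an affine open with the same vanishing sections are equal. -/
lemma eq_of_evaluation_eq_zero_iff {V : X.Opens} (hV : IsAffineOpen V) {x x' : X} (hx : x ∈ V)
    (hx' : x' ∈ V)
    (h : ∀ a, X.evaluation V x hx a = 0 ↔ X.evaluation V x' hx' a = 0) : x = x' := by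
  have h' : ∀ a : Γ(X, V), x ∈ X.basicOpen a ↔ x' ∈ X.basicOpen a := fun a => by
    rw [← Scheme.evaluation_ne_zero_iff_mem_basicOpen X x hx a,
      ← Scheme.evaluation_ne_zero_iff_mem_basicOpen X x' hx' a, ne_eq, ne_eq, h a]
  refine (inseparable_iff_forall_isOpen.2 fun W hW => ⟨fun hxW => ?_, fun hxW => ?_⟩).eq
  · obtain ⟨a, ha, hxa⟩ := hV.exists_basicOpen_le (V := ⟨W, hW⟩) ⟨x, hxW⟩ hx
    exact ha ((h' a).1 hxa)
  · obtain ⟨a, ha, hxa⟩ := hV.exists_basicOpen_le (V := ⟨W, hW⟩) ⟨x', hxW⟩ hx'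
    exact ha ((h' a).2 hxa)

lemma evaluation_appLE (f : X ⟶ Y) (V : Y.Opens) (W : X.Opens) (e : W ≤ f ⁻¹ᵁ V) (x : X)
    (hx : x ∈ W) (a : Γ(Y, V)) :
    X.evaluation W x hx ((f.appLE V W e).hom a) =
      f.residueFieldMap x (Y.evaluation V (f x) (e hx) a) := by
  rw [Scheme.evaluation_naturality_apply]
  show (X.presheaf.germ W x hx ≫ X.residue x).hom ((f.app V ≫ X.presheaf.map _).hom a) = _
  rw [← RingHom.comp_apply, ← CommRingCat.hom_comp, Category.assoc, ← Category.assoc (X.presheaf.map _),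
    TopCat.Presheaf.germ_res]
  rfl

lemma evaluation_congr {V : X.Opens} {x x' : X} (e : x' = x) (hx : x ∈ V) (hx' : x' ∈ V)
    (a : Γ(X, V)) :
    (X.residueFieldCongr e).inv (X.evaluation V x hx a) = X.evaluation V x' hx' a := by
  subst e
  rfl

/-- The extension of residue fields along a quotient is normal, with the decomposition group
surjecting onto its automorphism group. -/
theorem normal_and_stabilizer_surjective {G : Type u} [Group G] [Finite G] {ρ : G →* Aut X}
    {p : X ⟶ Y} (hp : SGA1.IsQuot ρ p) (x : X) :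
    (letI := (p.residueFieldMap x).hom.toAlgebra
     Normal (Y.residueField (p.base x)) (X.residueField x)) ∧
    ∀ τ : X.residueField x ≅ X.residueField x,
      p.residueFieldMap x ≫ τ.hom = p.residueFieldMap x →
      ∃ (g : G) (e : (ρ g).hom.base x = x),
        τ.hom = (X.residueFieldCongr e).inv ≫ (ρ g).hom.residueFieldMap x := by
  haveI := hp.affine
  obtain ⟨U, hU, hyU, -⟩ := exists_isAffineOpen_mem_and_subset (x := p x) (U := ⊤) trivial
  have hV : IsAffineOpen (p ⁻¹ᵁ U) := hU.preimage p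
  letI := secAction ρ (p ⁻¹ᵁ U) (fun g => SGA1.preimage_le_of_inv ρ p hp.inv g U)
  letI := (p.app U).hom.toAlgebra
  obtain ⟨h1, h2⟩ := isInvariant_of_isQuot hp U
  set evY := Y.evaluation U (p x) hyU with hevY
  set evX := X.evaluation (p ⁻¹ᵁ U) x hyU with hevX
  set P := RingHom.ker evY.hom with hP
  set Q := RingHom.ker evX.hom with hQ
  haveI : P.IsPrime := RingHom.ker_isPrime _
  haveI : Q.IsPrime := RingHom.ker_isPrime _
  letI algKL := (p.residueFieldMap x).hom.toAlgebra
  have hev : ∀ a, p.residueFieldMap x (evY a) = evX (algebraMap _ _ a) :=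
    fun a => Scheme.evaluation_naturality_apply p x hyU a
  haveI : Q.LiesOver P := ⟨by
    ext a
    show evY a = 0 ↔ evX ((p.app U).hom a) = 0
    rw [← show p.residueFieldMap x (evY a) = evX ((p.app U).hom a) from hev a]
    exact (map_eq_zero (p.residueFieldMap x).hom).symm⟩
  letI : Algebra (Γ(Y, U) ⧸ P) (Y.residueField (p x)) := (RingHom.kerLift evY.hom).toAlgebra
  letI : Algebra (Γ(X, p ⁻¹ᵁ U) ⧸ Q) (X.residueField x) := (RingHom.kerLift evX.hom).toAlgebra
  letI : Algebra (Γ(Y, U) ⧸ P) (X.residueField x) :=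
    ((algebraMap (Γ(X, p ⁻¹ᵁ U) ⧸ Q) (X.residueField x)).comp
      (algebraMap (Γ(Y, U) ⧸ P) (Γ(X, p ⁻¹ᵁ U) ⧸ Q))).toAlgebra
  haveI : IsScalarTower (Γ(Y, U) ⧸ P) (Γ(X, p ⁻¹ᵁ U) ⧸ Q) (X.residueField x) :=
    IsScalarTower.of_algebraMap_eq' rfl
  haveI : IsScalarTower (Γ(Y, U) ⧸ P) (Y.residueField (p x)) (X.residueField x) :=
    IsScalarTower.of_algebraMap_eq fun a => by
      obtain ⟨a, rfl⟩ := Ideal.Quotient.mk_surjective a
      exact (hev a).symm
  haveI : IsFractionRing (Γ(Y, U) ⧸ P) (Y.residueField (p x)) :=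
    isFractionRing_evaluation hU (p x) hyU
  haveI : IsFractionRing (Γ(X, p ⁻¹ᵁ U) ⧸ Q) (X.residueField x) :=
    isFractionRing_evaluation hV x hyU
  refine ⟨Ideal.IsFractionRing.normal G P Q (Y.residueField (p x)) (X.residueField x), ?_⟩
  intro τ hτ
  let f : Gal(X.residueField x/Y.residueField (p x)) :=
    AlgEquiv.ofRingEquiv (f := τ.commRingCatIsoToRingEquiv) fun k => congr(($hτ).hom k)
  obtain ⟨⟨σ, hσ⟩, hf⟩ := IsFractionRing.stabilizerHom_surjective G P Q
    (Y.residueField (p x)) (X.residueField x) f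
  have hpx : (ρ σ⁻¹).hom x ∈ p ⁻¹ᵁ U := by
    show p ((ρ σ⁻¹).hom x) ∈ U
    have h := congr(($(hp.inv σ⁻¹)).base x)
    exact Eq.mpr (congrArg (· ∈ U) h) hyU
  have hsmul : ∀ a : Γ(X, p ⁻¹ᵁ U), evX (σ • a) =
      (ρ σ⁻¹).hom.residueFieldMap x (X.evaluation (p ⁻¹ᵁ U) ((ρ σ⁻¹).hom x) hpx a) :=
    fun a => evaluation_appLE (ρ σ⁻¹).hom _ _ _ x hyU a
  have e : (ρ σ⁻¹).hom x = x := by
    refine eq_of_evaluation_eq_zero_iff hV hpx hyU fun a => ?_
    rw [← map_eq_zero ((ρ σ⁻¹).hom.residueFieldMap x).hom, ← hsmul a]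
    show σ • a ∈ Q ↔ a ∈ Q
    conv_lhs => rw [← (MulAction.mem_stabilizer_iff.1 hσ), Ideal.smul_mem_pointwise_smul_iff]
  refine ⟨σ⁻¹, e, ?_⟩
  refine CommRingCat.hom_ext (IsLocalization.ringHom_ext (nonZeroDivisors (Γ(X, p ⁻¹ᵁ U) ⧸ Q)) ?_)
  refine Ideal.Quotient.ringHom_ext (RingHom.ext fun a => ?_)
  show τ.hom (evX a) = (ρ σ⁻¹).hom.residueFieldMap x ((X.residueFieldCongr e).inv (evX a))
  rw [hevX, evaluation_congr e hyU hpx, ← hsmul a]
  have h3 := AlgEquiv.congr_fun hf (evX a)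
  have h4 := IsFractionRing.stabilizerHom_apply_apply_mk G P Q
    (Y.residueField (p x)) (X.residueField x) ⟨σ, hσ⟩ a
  exact h3.symm.trans h4

end SGA1Q
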