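import Groth.Agent.SGA1Q.Affine
import Mathlib.AlgebraicGeometry.Morphisms.Flat
import Mathlib.RingTheory.Flat.Basic
import Mathlib.LinearAlgebra.TensorProduct.Pi
import Mathlib.Algebra.Category.Ring.Constructions

/-!
# Quotients by finite groups commute with flat base change
-/

set_option autoImplicit false
universe u

open CategoryTheory CategoryTheory.Limits AlgebraicGeometry TopologicalSpace
open scoped TensorProduct

namespace SGA1Q

lemma invariants_baseChange {G : Type u} [Finite G] {B A B' A' : Type u} [CommRing B]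
    [CommRing A] [CommRing B'] [CommRing A'] [Algebra B A] [Algebra B B'] [Algebra A A']
    [Algebra B' A'] [Algebra B A'] [IsScalarTower B B' A'] [IsScalarTower B A A']
    [Algebra.IsPushout B B' A A'] [Module.Flat B B']
    (σ : G → A →ₐ[B] A) (τ : G → A' →ₐ[B'] A')
    (hστ : ∀ g a, τ g (algebraMap A A' a) = algebraMap A A' (σ g a))
    (hinj : Function.Injective (algebraMap B A))
    (hinv : ∀ a, (∀ g, σ g a = a) → a ∈ Set.range (algebraMap B A)) :
    Function.Injective (algebraMap B' A') ∧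
      ∀ a', (∀ g, τ g a' = a') → a' ∈ Set.range (algebraMap B' A') := by
  classical
  cases nonempty_fintype G
  let e : B' ⊗[B] A ≃ₐ[B'] A' := Algebra.IsPushout.equiv B B' A A'
  have he : ∀ (b : B') (a : A), e (b ⊗ₜ[B] a) = algebraMap B' A' b * algebraMap A A' a := by
    intro b a
    simp [e, Algebra.IsPushout.equiv_tmul]
  let ι : B →ₗ[B] A := Algebra.linearMap B A
  let d : A →ₗ[B] G → A := LinearMap.pi fun g => (σ g).toLinearMap - LinearMap.id
  have hex : Function.Exact ι d := by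
    intro a
    constructor
    · intro h
      obtain ⟨b, hb⟩ := hinv a fun g => sub_eq_zero.1 (congrFun h g)
      exact ⟨b, hb⟩
    · rintro ⟨b, rfl⟩
      funext g
      exact sub_eq_zero.2 ((σ g).commutes b)
  have hex' := Module.Flat.lTensor_exact B' hex
  have hι : ∀ b : B', e (ι.lTensor B' ((TensorProduct.rid B B').symm b)) = algebraMap B' A' b := by
    intro b
    rw [TensorProduct.rid_symm_apply, LinearMap.lTensor_tmul, he]
    show algebraMap B' A' b * algebraMap A A' (algebraMap B A 1) = _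
    rw [map_one, map_one, mul_one]
  refine ⟨fun b b' h => ?_, fun a' ha' => ?_⟩
  · rw [← hι, ← hι] at h
    exact (TensorProduct.rid B B').symm.injective
      (Module.Flat.lTensor_preserves_injective_linearMap (M := B') ι hinj (e.injective h))
  · obtain ⟨z, rfl⟩ := e.surjective a'
    have hτ : ∀ g z, τ g (e z) = e ((σ g).toLinearMap.lTensor B' z) := by
      intro g z
      induction z using TensorProduct.induction_on with
      | zero => simp
      | tmul b a => rw [he, LinearMap.lTensor_tmul, he, map_mul, AlgHom.commutes, hστ]; rfl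
      | add x y hx hy => simp only [map_add, hx, hy]
    have hz : d.lTensor B' z = 0 := by
      apply (TensorProduct.piRight B B B' (fun _ : G => A)).injective
      funext g
      rw [map_zero]
      have : ∀ w, TensorProduct.piRight B B B' (fun _ : G => A) (d.lTensor B' w) g =
          (σ g).toLinearMap.lTensor B' w - w := by
        intro w
        induction w using TensorProduct.induction_on with
        | zero => simp
        | tmul b a => simp [d, TensorProduct.tmul_sub]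
        | add x y hx hy => simp only [map_add, Pi.add_apply, hx, hy]; abel
      rw [this]
      exact sub_eq_zero.2 (e.injective ((hτ g z).symm.trans (ha' g)))
    obtain ⟨y, rfl⟩ := (hex' z).1 hz
    refine ⟨TensorProduct.rid B B' y, ?_⟩
    rw [← hι, LinearEquiv.symm_apply_apply]

variable {X Y X' Y' : Scheme.{u}} {G : Type u} [Group G] [Finite G]

theorem isQuot_baseChange {ρ : G →* Aut X} {p : X ⟶ Y} (hp : SGA1.IsQuot ρ p) (qY : Y' ⟶ Y)
    [Flat qY] (pX : X' ⟶ X) (p' : X' ⟶ Y') (hX : IsPullback pX p' p qY) (ρ' : G →* Aut X')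
    (hρ₁ : ∀ g : G, (ρ' g).hom ≫ pX = pX ≫ (ρ g).hom) (hρ₂ : ∀ g : G, (ρ' g).hom ≫ p' = p') :
    SGA1.IsQuot ρ' p' := by
  have hp' : IsAffineHom p' := MorphismProperty.of_isPullback hX hp.affine
  refine isQuot_of_affine_cover hp' hρ₂ fun y' => ?_
  obtain ⟨U, hU, hyU, -⟩ := exists_isAffineOpen_mem_and_subset (x := qY y') (U := ⊤) trivial
  obtain ⟨U', hU', hyU', hle⟩ := exists_isAffineOpen_mem_and_subset (x := y') (U := qY ⁻¹ᵁ U) hyU
  haveI := hp.affine
  have hUX : IsAffineOpen (p ⁻¹ᵁ U) := hU.preimage p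
  have hle' : p' ⁻¹ᵁ U' ≤ pX ⁻¹ᵁ (p ⁻¹ᵁ U) := by
    rw [← Scheme.Hom.comp_preimage, hX.w, Scheme.Hom.comp_preimage]
    exact p'.preimage_mono hle
  have hUY : p' ⁻¹ᵁ U' = pX ⁻¹ᵁ (p ⁻¹ᵁ U) ⊓ p' ⁻¹ᵁ U' := (inf_eq_right.2 hle').symm
  have hpo := (isIso_pushoutSection_iff hX (US := U) (UT := U') (UX := p ⁻¹ᵁ U) hle le_rfl hUY).1
    (isIso_pushoutSection_of_isAffineOpen hX hle le_rfl hUY hU hU' hUX)
  refine ⟨U', hU', hyU', ?_⟩
  letI algA := (p.appLE U (p ⁻¹ᵁ U) le_rfl).hom.toAlgebra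
  letI algB' := (qY.appLE U U' hle).hom.toAlgebra
  letI algA' := (pX.appLE (p ⁻¹ᵁ U) (p' ⁻¹ᵁ U') hle').hom.toAlgebra
  letI algB'A' := (p'.appLE U' (p' ⁻¹ᵁ U') le_rfl).hom.toAlgebra
  letI algBA' := ((pX.appLE (p ⁻¹ᵁ U) (p' ⁻¹ᵁ U') hle').hom.comp
    (p.appLE U (p ⁻¹ᵁ U) le_rfl).hom).toAlgebra
  haveI : IsScalarTower Γ(Y, U) Γ(X, p ⁻¹ᵁ U) Γ(X', p' ⁻¹ᵁ U') :=
    IsScalarTower.of_algebraMap_eq' rfl
  haveI : IsScalarTower Γ(Y, U) Γ(Y', U') Γ(X', p' ⁻¹ᵁ U') :=
    IsScalarTower.of_algebraMap_eq' (congrArg CommRingCat.Hom.hom hpo.w)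
  haveI : Algebra.IsPushout Γ(Y, U) Γ(Y', U') Γ(X, p ⁻¹ᵁ U) Γ(X', p' ⁻¹ᵁ U') :=
    CommRingCat.isPushout_iff_isPushout.1 hpo.flip
  haveI : Module.Flat Γ(Y, U) Γ(Y', U') := qY.flat_appLE hU hU' hle
  let σ : G → Γ(X, p ⁻¹ᵁ U) →ₐ[Γ(Y, U)] Γ(X, p ⁻¹ᵁ U) := fun g =>
    ⟨((ρ g).hom.appLE (p ⁻¹ᵁ U) (p ⁻¹ᵁ U) (SGA1.preimage_le_of_inv ρ p hp.inv g U)).hom,
      fun t => by
        have := appLE_app_of_inv hp.inv U g t
        rw [Scheme.Hom.app_eq_appLE] at this
        exact this⟩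
  let τ : G → Γ(X', p' ⁻¹ᵁ U') →ₐ[Γ(Y', U')] Γ(X', p' ⁻¹ᵁ U') := fun g =>
    ⟨((ρ' g).hom.appLE (p' ⁻¹ᵁ U') (p' ⁻¹ᵁ U') (SGA1.preimage_le_of_inv ρ' p' hρ₂ g U')).hom,
      fun t => by
        have := appLE_app_of_inv hρ₂ U' g t
        rw [Scheme.Hom.app_eq_appLE] at this
        exact this⟩
  have happ : p.app U = p.appLE U (p ⁻¹ᵁ U) le_rfl := Scheme.Hom.app_eq_appLE p
  have happ' : p'.app U' = p'.appLE U' (p' ⁻¹ᵁ U') le_rfl := Scheme.Hom.app_eq_appLE p'
  have key := invariants_baseChange σ τ ?_ ?_ ?_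
  · rw [happ']
    exact key
  · intro g a
    have : pX.appLE (p ⁻¹ᵁ U) (p' ⁻¹ᵁ U') hle' ≫
        (ρ' g).hom.appLE (p' ⁻¹ᵁ U') (p' ⁻¹ᵁ U') (SGA1.preimage_le_of_inv ρ' p' hρ₂ g U') =
        (ρ g).hom.appLE (p ⁻¹ᵁ U) (p ⁻¹ᵁ U) (SGA1.preimage_le_of_inv ρ p hp.inv g U) ≫
          pX.appLE (p ⁻¹ᵁ U) (p' ⁻¹ᵁ U') hle' := by
      rw [Scheme.Hom.appLE_comp_appLE, Scheme.Hom.appLE_comp_appLE]
      exact appLE_congr_hom (hρ₁ g) _ _
    exact congr(($this).hom a)
  · have := hp.injective U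
    rw [happ] at this
    exact this
  · intro a ha
    have := (hp.range_iff U a).2 ha
    rw [happ] at this
    exact this

end SGA1Q
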