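import Mathlib.RingTheory.Invariant.Defs
import Mathlib.RingTheory.TensorProduct.Maps
import Mathlib.LinearAlgebra.TensorProduct.Finiteness
import Mathlib.RingTheory.Flat.Basic
import Mathlib.Algebra.Module.Projective

/-!
# Galois extensions of rings: `A ⊗_B A ≅ ∏_G A` for a free action
-/

set_option autoImplicit false
universe u

open scoped TensorProduct

namespace SGA1Q

variable (G A B : Type u) [Group G] [CommRing A] [CommRing B] [Algebra B A] [MulSemiringAction G A]
  [SMulCommClass G B A]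

/-- `a ⊗ b ↦ a * g • b`. -/
noncomputable def galMap (g : G) : A ⊗[B] A →ₐ[B] A :=
  Algebra.TensorProduct.productMap (AlgHom.id B A) (MulSemiringAction.toAlgHom B A g)

@[simp]
lemma galMap_tmul (g : G) (a b : A) : galMap G A B g (a ⊗ₜ[B] b) = a * g • b := by
  simp [galMap]

lemma galMap_surjective (g : G) : Function.Surjective (galMap G A B g) :=
  fun a => ⟨a ⊗ₜ 1, by simp⟩

/-- `a ⊗ b ↦ a ⊗ g • b`. -/
noncomputable def twistR (g : G) : A ⊗[B] A →ₐ[B] A ⊗[B] A :=
  Algebra.TensorProduct.map (AlgHom.id B A) (MulSemiringAction.toAlgHom B A g)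

@[simp]
lemma twistR_tmul (g : G) (a b : A) : twistR G A B g (a ⊗ₜ[B] b) = a ⊗ₜ (g • b) := by
  simp [twistR]

/-- `a ⊗ b ↦ g • b ⊗ a`. -/
noncomputable def twistL (g : G) : A ⊗[B] A →ₐ[B] A ⊗[B] A :=
  (Algebra.TensorProduct.map (MulSemiringAction.toAlgHom B A g) (AlgHom.id B A)).comp
    (Algebra.TensorProduct.comm B A A).toAlgHom

@[simp]
lemma twistL_tmul (g : G) (a b : A) : twistL G A B g (a ⊗ₜ[B] b) = (g • b) ⊗ₜ a := by
  simp [twistL]

lemma exists_sep {g : G} (h : Ideal.span (Set.range fun a : A => a - g • a) = ⊤) :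
    ∃ w : A ⊗[B] A, galMap G A B 1 w = 1 ∧ galMap G A B g w = 0 := by
  have h1 : (1 : A) ∈ Ideal.span (Set.range fun a : A => a - g • a) := h ▸ trivial
  revert h1
  generalize (1 : A) = x
  intro h1
  induction h1 using Submodule.span_induction with
  | mem x hx =>
    obtain ⟨a, rfl⟩ := hx
    exact ⟨(1 : A) ⊗ₜ a - (g • a) ⊗ₜ 1, by simp, by simp⟩
  | zero => exact ⟨0, map_zero _, map_zero _⟩
  | add x y _ _ hx hy =>
    obtain ⟨v, hv, hv'⟩ := hx
    obtain ⟨w, hw, hw'⟩ := hy
    exact ⟨v + w, by rw [map_add, hv, hw], by rw [map_add, hv', hw', add_zero]⟩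
  | smul c x _ hx =>
    obtain ⟨v, hv, hv'⟩ := hx
    refine ⟨(c ⊗ₜ 1) * v, ?_, ?_⟩
    · rw [map_mul, hv, galMap_tmul, smul_one, mul_one, smul_eq_mul]
    · rw [map_mul, hv', mul_zero]

variable [Finite G]

/-- Data extracted from a free action. -/
theorem exists_galoisBasis
    (hfree : ∀ g : G, g ≠ 1 → Ideal.span (Set.range fun a : A => a - g • a) = ⊤) :
    ∃ f : A ⊗[B] A, galMap G A B 1 f = 1 ∧ ∀ g : G, g ≠ 1 → galMap G A B g f = 0 := by
  classical
  cases nonempty_fintype G
  choose w hw hw' using fun g : {g : G // g ≠ 1} => exists_sep G A B (hfree g.1 g.2)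
  refine ⟨∏ g, w g, ?_, fun g hg => ?_⟩
  · rw [map_prod]; exact Finset.prod_eq_one fun g _ => hw g
  · rw [map_prod]; exact Finset.prod_eq_zero (i := (⟨g, hg⟩ : {g : G // g ≠ 1})) (Finset.mem_univ _) (hw' ⟨g, hg⟩)

/-- For each `g` an element which is `1` at `g` and `0` elsewhere. -/
theorem exists_indicator
    (hfree : ∀ g : G, g ≠ 1 → Ideal.span (Set.range fun a : A => a - g • a) = ⊤) (g : G) :
    ∃ u : A ⊗[B] A, galMap G A B g u = 1 ∧ ∀ h : G, h ≠ g → galMap G A B h u = 0 := by
  obtain ⟨f, hf1, hf0⟩ := exists_galoisBasis G A B hfree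
  have key : ∀ h t, galMap G A B h (twistR G A B g⁻¹ t) = galMap G A B (h * g⁻¹) t := by
    intro h t
    induction t using TensorProduct.induction_on with
    | zero => simp
    | tmul a b => simp [mul_smul]
    | add x y hx hy => simp only [map_add, hx, hy]
  refine ⟨twistR G A B g⁻¹ f, ?_,
    fun h hh => ?_⟩
  · rw [key, mul_inv_cancel, hf1]
  · rw [key, hf0 _ fun e => hh (mul_inv_eq_one.1 e)]

variable [Algebra.IsInvariant B A G]

lemma galMap_injective_aux [Fintype G] (b : A) (t : A ⊗[B] A) :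
    ∑ g : G, ((g • b) ⊗ₜ[B] (1 : A)) * twistL G A B g t =
      (1 : A) ⊗ₜ[B] ∑ g : G, g • b * galMap G A B g t := by
  induction t using TensorProduct.induction_on with
  | zero => simp
  | tmul x y =>
    obtain ⟨c, hc⟩ := Algebra.IsInvariant.isInvariant (A := B) (G := G) (∑ g : G, g • (b * y))
      (fun h => by
        rw [Finset.smul_sum]
        simp_rw [smul_smul]
        exact Equiv.sum_comp (Equiv.mulLeft h) fun g => g • (b * y))
    have e1 : ∑ g : G, ((g • b) ⊗ₜ[B] (1 : A)) *
        twistL G A B g (x ⊗ₜ y) = (∑ g : G, g • (b * y)) ⊗ₜ[B] x := by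
      rw [TensorProduct.sum_tmul]
      exact Finset.sum_congr rfl fun g _ => by simp [smul_mul']
    have e2 : ∑ g : G, g • b * galMap G A B g (x ⊗ₜ y) = x * ∑ g : G, g • (b * y) := by
      rw [Finset.mul_sum]
      exact Finset.sum_congr rfl fun g _ => by rw [galMap_tmul, smul_mul']; ring
    rw [e1, e2, ← hc, mul_comm x, ← Algebra.smul_def, Algebra.algebraMap_eq_smul_one,
      TensorProduct.smul_tmul]
  | add x y hx hy =>
    simp only [map_add, mul_add, Finset.sum_add_distrib, hx, hy, TensorProduct.tmul_add]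

/-- The map to the product is injective. -/
theorem galMap_jointly_injective
    (hfree : ∀ g : G, g ≠ 1 → Ideal.span (Set.range fun a : A => a - g • a) = ⊤)
    (z : A ⊗[B] A) (hz : ∀ g, galMap G A B g z = 0) : z = 0 := by
  classical
  cases nonempty_fintype G
  obtain ⟨f, hf1, hf0⟩ := exists_galoisBasis G A B hfree
  have hsum : ∀ b : A, ∑ g : G, g • b * galMap G A B g f = b := by
    intro b
    rw [Finset.sum_eq_single 1 (fun g _ hg => by rw [hf0 g hg, mul_zero]) (by simp), hf1, one_smul,
      mul_one]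
  have key : ∀ z : A ⊗[B] A, ∑ g : G, (galMap G A B g z ⊗ₜ[B] (1 : A)) *
      twistL G A B g f = z := by
    intro z
    induction z using TensorProduct.induction_on with
    | zero => simp
    | tmul a b =>
      have h1 : ∀ g : G, (a * g • b) ⊗ₜ[B] (1 : A) = (a ⊗ₜ 1) * ((g • b) ⊗ₜ 1) := fun g => by simp
      simp only [galMap_tmul, h1, mul_assoc, ← Finset.mul_sum]
      rw [galMap_injective_aux, hsum]
      simp
    | add x y hx hy => simp only [map_add, TensorProduct.add_tmul, add_mul,
        Finset.sum_add_distrib, hx, hy]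
  rw [← key z]
  simp [hz]

/-- A free extension is projective, hence flat. -/
theorem projective_of_free [FaithfulSMul B A]
    (hfree : ∀ g : G, g ≠ 1 → Ideal.span (Set.range fun a : A => a - g • a) = ⊤) :
    Module.Projective B A := by
  classical
  cases nonempty_fintype G
  obtain ⟨f, hf1, hf0⟩ := exists_galoisBasis G A B hfree
  obtain ⟨S, hS⟩ := TensorProduct.exists_finset f
  have hinj := FaithfulSMul.algebraMap_injective B A
  have hT : ∀ a : A, ∃ b : B, algebraMap B A b = ∑ g : G, g • a := fun a =>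
    Algebra.IsInvariant.isInvariant (A := B) (G := G) _ fun h => by
      rw [Finset.smul_sum]
      simp_rw [smul_smul]
      exact Equiv.sum_comp (Equiv.mulLeft h) fun g => g • a
  choose T hT using hT
  let Tl : A →ₗ[B] B :=
    { toFun := T
      map_add' := fun x y => hinj (by
        rw [map_add, hT, hT, hT, ← Finset.sum_add_distrib]; simp [smul_add])
      map_smul' := fun c x => hinj (by
        rw [RingHom.id_apply, smul_eq_mul, map_mul, hT, hT, Finset.mul_sum]
        exact Finset.sum_congr rfl fun g _ => by rw [smul_comm, Algebra.smul_def]) }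
  let i : A →ₗ[B] (S → B) := LinearMap.pi fun j => Tl.comp (LinearMap.mulRight B j.1.2)
  let s : (S → B) →ₗ[B] A :=
    ∑ j : S, (LinearMap.toSpanSingleton B A j.1.1).comp (LinearMap.proj j)
  refine Module.Projective.of_split i s (LinearMap.ext fun a => ?_)
  have h1 : s (i a) = ∑ j : S, algebraMap B A (T (a * j.1.2)) * j.1.1 := by
    simp [s, i, Tl, Algebra.smul_def]
  show s (i a) = a
  rw [h1]
  simp_rw [hT, Finset.sum_mul]
  rw [Finset.sum_comm]
  have h2 : ∀ g : G, ∑ j : S, g • (a * j.1.2) * j.1.1 = g • a * galMap G A B g f := by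
    intro g
    rw [hS, map_sum, Finset.mul_sum, ← Finset.sum_attach S]
    exact Finset.sum_congr rfl fun j _ => by rw [galMap_tmul, smul_mul']; ring
  simp_rw [h2]
  rw [Finset.sum_eq_single 1 (fun g _ hg => by rw [hf0 g hg, mul_zero]) (by simp), hf1, one_smul,
    mul_one]

end SGA1Q
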