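import Groth.Agent.SGA1Q.Orbits
import Groth.Agent.SGA1Q.FreeRing
import Mathlib.AlgebraicGeometry.Morphisms.OpenImmersion
import Mathlib.AlgebraicGeometry.Morphisms.Flat
import Mathlib.AlgebraicGeometry.PullbackCarrier
import Mathlib.FieldTheory.IsAlgClosed.AlgebraicClosure

/-!
# Free quotients are torsors: `∐_G X ≅ X ×_Y X`
-/

set_option autoImplicit false
universe u

open CategoryTheory CategoryTheory.Limits AlgebraicGeometry TopologicalSpace
open scoped TensorProduct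

namespace SGA1Q

variable {X Y : Scheme.{u}} {G : Type u} [Group G] {ρ : G →* Aut X} {p : X ⟶ Y}

/-- Geometric freeness. -/
def FreeOnGeomPoints (ρ : G →* Aut X) : Prop :=
  ∀ (K : Type u) [Field K] [IsAlgClosed K] (ξ : Spec (CommRingCat.of K) ⟶ X) (g : G),
    ξ ≫ (ρ g).hom = ξ → g = 1

lemma span_eq_top_of_free (hfree : FreeOnGeomPoints ρ) {V : X.Opens} (hV : IsAffineOpen V)
    (hst : ∀ g : G, V ≤ (ρ g).hom ⁻¹ᵁ V) (g : G) (hg : g ≠ 1) :
    letI := secAction ρ V hst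
    Ideal.span (Set.range fun a : Γ(X, V) => a - g • a) = ⊤ := by
  letI := secAction ρ V hst
  by_contra hne
  obtain ⟨m, hm, hle⟩ := Ideal.exists_le_maximal _ hne
  haveI := hm
  letI : Field (Γ(X, V) ⧸ m) := Ideal.Quotient.field m
  let K := AlgebraicClosure (Γ(X, V) ⧸ m)
  let κ : Γ(X, V) →+* K := (algebraMap (Γ(X, V) ⧸ m) K).comp (Ideal.Quotient.mk m)
  let ξ : Spec (CommRingCat.of K) ⟶ X := Spec.map (CommRingCat.ofHom κ) ≫ hV.fromSpec
  have hκ : ∀ a, κ (g • a) = κ a := fun a => by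
    show algebraMap _ K (Ideal.Quotient.mk m (g • a)) = algebraMap _ K (Ideal.Quotient.mk m a)
    refine congrArg (algebraMap _ K) (Ideal.Quotient.eq.2 ?_)
    rw [← m.neg_mem_iff, neg_sub]
    exact hle (Ideal.subset_span ⟨a, rfl⟩)
  refine hg (inv_eq_one.1 (hfree K ξ g⁻¹ ?_))
  show (Spec.map _ ≫ hV.fromSpec) ≫ _ = Spec.map _ ≫ hV.fromSpec
  rw [Category.assoc, ← IsAffineOpen.SpecMap_appLE_fromSpec (ρ g⁻¹).hom hV hV (hst _),
    ← Spec.map_comp_assoc]
  congr 2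
  ext a
  exact hκ a

variable (hinv : ∀ g : G, (ρ g).hom ≫ p = p)

/-- `x ↦ (x, g x)`. -/
noncomputable def graphMap (g : G) : X ⟶ pullback p p :=
  pullback.lift (𝟙 X) (ρ g).hom ((Category.id_comp p).trans (hinv g).symm)

lemma graphMap_injective (g : G) : Function.Injective (graphMap hinv g) := fun x y h => by
  have e : ∀ z, pullback.fst p p (graphMap hinv g z) = z :=
    fun z => congr(($(pullback.lift_fst (𝟙 X) (ρ g).hom
      ((Category.id_comp p).trans (hinv g).symm))).base z)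
  rw [← e x, ← e y, h]

variable [Finite G] (hp : SGA1.IsQuot ρ p) (hfree : FreeOnGeomPoints ρ)

section Local

variable {U : Y.Opens} (hU : IsAffineOpen U)

include hp hfree hU in
/-- All local statements over one affine open of the quotient. -/
theorem local_facts (hA : IsAffineOpen (p ⁻¹ᵁ U)) :
    (∀ g : G, IsOpenImmersion (hA.fromSpec ≫ graphMap hp.inv g)) ∧
    Flat (hA.fromSpec ≫ p) ∧
    (∀ (g h : G) (x : X), x ∈ p ⁻¹ᵁ U → graphMap hp.inv g x = graphMap hp.inv h x → g = h) ∧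
    (∀ z : ↥(pullback p p), p (pullback.fst p p z) ∈ U →
      ∃ (g : G) (x : X), graphMap hp.inv g x = z) := by
  classical
  cases nonempty_fintype G
  letI := secAction ρ (p ⁻¹ᵁ U) (fun g => SGA1.preimage_le_of_inv ρ p hp.inv g U)
  letI := (p.appLE U (p ⁻¹ᵁ U) le_rfl).hom.toAlgebra
  have hap : p.app U = p.appLE U (p ⁻¹ᵁ U) le_rfl := Scheme.Hom.app_eq_appLE p
  obtain ⟨h1, h2⟩ : SMulCommClass G Γ(Y, U) Γ(X, p ⁻¹ᵁ U) ∧
      Algebra.IsInvariant Γ(Y, U) Γ(X, p ⁻¹ᵁ U) G := by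
    refine ⟨⟨fun g b a => ?_⟩, ⟨fun a ha => ?_⟩⟩
    · rw [Algebra.smul_def, Algebra.smul_def, smul_mul']
      congr 1
      have e := appLE_app_of_inv hp.inv U g⁻¹ b
      rw [hap] at e
      exact e
    · obtain ⟨t, ht⟩ := (hp.range_iff U a).2 fun g => by
        have e := ha g⁻¹
        rw [← inv_inv g]
        exact e
      rw [hap] at ht
      exact ⟨t, ht⟩
  haveI : FaithfulSMul Γ(Y, U) Γ(X, p ⁻¹ᵁ U) := by
    refine (faithfulSMul_iff_algebraMap_injective _ _).2 ?_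
    show Function.Injective (p.appLE U (p ⁻¹ᵁ U) le_rfl).hom
    rw [← hap]
    exact hp.injective U
  have hf : ∀ g : G, g ≠ 1 → Ideal.span (Set.range fun a : Γ(X, p ⁻¹ᵁ U) => a - g • a) = ⊤ :=
    span_eq_top_of_free hfree hA _
  let φ : CommRingCat.of Γ(Y, U) ⟶ CommRingCat.of Γ(X, p ⁻¹ᵁ U) :=
    CommRingCat.ofHom (algebraMap Γ(Y, U) Γ(X, p ⁻¹ᵁ U))
  have hsq : Spec.map φ ≫ hU.fromSpec = hA.fromSpec ≫ p :=
    IsAffineOpen.SpecMap_appLE_fromSpec p hU hA le_rfl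
  let m : pullback (Spec.map φ) (Spec.map φ) ⟶ pullback p p :=
    pullback.map _ _ _ _ hA.fromSpec hA.fromSpec hU.fromSpec hsq hsq
  haveI : IsOpenImmersion m := inferInstanceAs (IsOpenImmersion (pullback.map _ _ _ _ _ _ _ _ _))
  let M : Spec (CommRingCat.of (Γ(X, p ⁻¹ᵁ U) ⊗[Γ(Y, U)] Γ(X, p ⁻¹ᵁ U))) ⟶ pullback p p :=
    (pullbackSpecIso Γ(Y, U) Γ(X, p ⁻¹ᵁ U) Γ(X, p ⁻¹ᵁ U)).inv ≫ m
  haveI : IsOpenImmersion M := inferInstanceAs (IsOpenImmersion (_ ≫ m))
  let Φ : G → (CommRingCat.of (Γ(X, p ⁻¹ᵁ U) ⊗[Γ(Y, U)] Γ(X, p ⁻¹ᵁ U)) ⟶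
      CommRingCat.of Γ(X, p ⁻¹ᵁ U)) := fun g =>
    CommRingCat.ofHom (galMap G Γ(X, p ⁻¹ᵁ U) Γ(Y, U) g).toRingHom
  have hgraph : ∀ g : G, hA.fromSpec ≫ graphMap hp.inv g = Spec.map (Φ g⁻¹) ≫ M := by
    intro g
    apply pullback.hom_ext
    · rw [Category.assoc, graphMap, pullback.lift_fst, Category.comp_id]
      simp only [M, Category.assoc]
      rw [
        show m ≫ pullback.fst p p = pullback.fst _ _ ≫ hA.fromSpec from pullback.lift_fst _ _ _,
        pullbackSpecIso_inv_fst_assoc, ← Spec.map_comp_assoc]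
      have : CommRingCat.ofHom (Algebra.TensorProduct.includeLeftRingHom) ≫ Φ g⁻¹ =
          𝟙 (CommRingCat.of Γ(X, p ⁻¹ᵁ U)) := by
        ext a
        simp [Φ]
      rw [this, Spec.map_id, Category.id_comp]
    · rw [Category.assoc, graphMap, pullback.lift_snd]
      simp only [M, Category.assoc]
      rw [
        show m ≫ pullback.snd p p = pullback.snd _ _ ≫ hA.fromSpec from pullback.lift_snd _ _ _,
        pullbackSpecIso_inv_snd_assoc, ← Spec.map_comp_assoc,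
        ← IsAffineOpen.SpecMap_appLE_fromSpec (ρ g).hom hA hA
          (SGA1.preimage_le_of_inv ρ p hp.inv g U)]
      congr 2
      ext a
      show ((ρ g).hom.appLE _ _ _).hom a = galMap G Γ(X, p ⁻¹ᵁ U) Γ(Y, U) g⁻¹ (1 ⊗ₜ a)
      rw [galMap_tmul, one_mul]
      show _ = ((ρ g⁻¹⁻¹).hom.appLE _ _ _).hom a
      simp only [inv_inv]
  have hsurj : ∀ g, Function.Surjective (Φ g).hom :=
    fun g => galMap_surjective G Γ(X, p ⁻¹ᵁ U) Γ(Y, U) g
  choose w hw1 hw0 using exists_indicator G Γ(X, p ⁻¹ᵁ U) Γ(Y, U) hf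
  refine ⟨fun g => ?_, ?_, fun g h x hx e => ?_, fun z hz => ?_⟩
  · rw [hgraph g]
    haveI : IsOpenImmersion (Spec.map (Φ g⁻¹)) := by
      refine (isOpenImmersion_SpecMap_iff_of_surjective _ (hsurj _)).2 ⟨1 - w g⁻¹, ?_, ?_⟩
      · refine IsIdempotentElem.one_sub (sub_eq_zero.1 ?_)
        refine galMap_jointly_injective G Γ(X, p ⁻¹ᵁ U) Γ(Y, U) hf _ fun h => ?_
        by_cases hh : h = g⁻¹
        · subst hh; simp [hw1]
        · simp [hw0 _ _ hh]
      · refine le_antisymm (fun z hz => ?_) ?_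
        · rw [Ideal.mem_span_singleton]
          refine ⟨z, ?_⟩
          have : z * w g⁻¹ = 0 := by
            refine galMap_jointly_injective G Γ(X, p ⁻¹ᵁ U) Γ(Y, U) hf _ fun h => ?_
            rw [map_mul]
            by_cases hh : h = g⁻¹
            · subst hh
              rw [show galMap G Γ(X, p ⁻¹ᵁ U) Γ(Y, U) g⁻¹ z = 0 from hz, zero_mul]
            · rw [hw0 _ _ hh, mul_zero]
          rw [sub_mul, one_mul, mul_comm (w g⁻¹), this, sub_zero]
        · rw [Ideal.span_le, Set.singleton_subset_iff]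
          show galMap G Γ(X, p ⁻¹ᵁ U) Γ(Y, U) g⁻¹ (1 - w g⁻¹) = 0
          rw [map_sub, map_one, hw1, sub_self]
    infer_instance
  · rw [← hsq]
    haveI : Flat (Spec.map φ) := by
      rw [Flat.SpecMap_iff]
      show RingHom.Flat (algebraMap Γ(Y, U) Γ(X, p ⁻¹ᵁ U))
      rw [RingHom.flat_algebraMap_iff]
      haveI := projective_of_free G Γ(X, p ⁻¹ᵁ U) Γ(Y, U) hf
      infer_instance
    infer_instance
  · obtain ⟨q, rfl⟩ : x ∈ Set.range hA.fromSpec := by rw [hA.range_fromSpec]; exact hx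
    have e1 := congr(($(hgraph g)).base q)
    have e2 := congr(($(hgraph h)).base q)
    have e3 : Spec.map (Φ g⁻¹) q = Spec.map (Φ h⁻¹) q :=
      M.isOpenEmbedding.injective (e1.symm.trans (e.trans e2))
    by_contra hne
    have h4 : (w g⁻¹) ∈ (Spec.map (Φ h⁻¹) q).asIdeal := by
      show galMap G Γ(X, p ⁻¹ᵁ U) Γ(Y, U) h⁻¹ (w g⁻¹) ∈ q.asIdeal
      rw [hw0 _ _ fun e => hne (inv_injective e).symm]
      exact q.asIdeal.zero_mem
    rw [← e3] at h4
    have h5 : galMap G Γ(X, p ⁻¹ᵁ U) Γ(Y, U) g⁻¹ (w g⁻¹) ∈ q.asIdeal := h4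
    rw [hw1] at h5
    exact q.2.ne_top ((Ideal.eq_top_iff_one _).2 h5)
  · have hzm : z ∈ Set.range m := by
      rw [Scheme.Pullback.range_map, hA.range_fromSpec]
      refine ⟨hz, ?_⟩
      show p (pullback.snd p p z) ∈ U
      have e : p (pullback.fst p p z) = p (pullback.snd p p z) :=
        congr(($(pullback.condition (f := p) (g := p))).base z)
      exact e ▸ hz
    obtain ⟨v, rfl⟩ := hzm
    obtain ⟨P, rfl⟩ :=
      (pullbackSpecIso Γ(Y, U) Γ(X, p ⁻¹ᵁ U) Γ(X, p ⁻¹ᵁ U)).inv.homeomorph.surjective v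
    obtain ⟨g, -, hg⟩ : ∃ g ∈ (Finset.univ : Finset G), RingHom.ker (Φ g).hom ≤ P.asIdeal := by
      refine (P.2.inf_le').1 fun z hz => ?_
      have : z = 0 := galMap_jointly_injective G Γ(X, p ⁻¹ᵁ U) Γ(Y, U) hf z
        fun h => (Finset.inf_le (Finset.mem_univ h) :
          Finset.univ.inf (fun g => RingHom.ker (Φ g).hom) ≤ RingHom.ker (Φ h).hom) hz
      rw [this]
      exact P.asIdeal.zero_mem
    obtain ⟨q, hq⟩ : P ∈ Set.range (PrimeSpectrum.comap (Φ g).hom) := by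
      rw [range_comap_of_surjective _ _ (hsurj g)]
      exact hg
    refine ⟨g⁻¹, hA.fromSpec q, ?_⟩
    have e := congr(($(hgraph g⁻¹)).base q)
    rw [inv_inv] at e
    rw [← hq]
    exact e

end Local

include hfree in
theorem isIso_sigmaDesc_graphMap (hp : SGA1.IsQuot ρ p) :
    IsIso (Sigma.desc (fun g : G => graphMap hp.inv g)) := by
  haveI := hp.affine
  have hloc : ∀ g, IsOpenImmersion (graphMap hp.inv g) := by
    intro g
    let 𝒰 := X.openCoverOfIsOpenCover (fun U : Y.affineOpens => p ⁻¹ᵁ U.1) (by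
      refine IsOpenCover.mk (top_le_iff.mp fun x _ => ?_)
      obtain ⟨U, hU, hxU, -⟩ := exists_isAffineOpen_mem_and_subset (x := p x) (U := ⊤) trivial
      exact Opens.mem_iSup.2 ⟨⟨U, hU⟩, hxU⟩)
    refine IsOpenImmersion.of_openCover_source _ (𝒰 := 𝒰) (graphMap_injective hp.inv g) fun U => ?_
    show IsOpenImmersion ((p ⁻¹ᵁ U.1).ι ≫ graphMap hp.inv g)
    have hA : IsAffineOpen (p ⁻¹ᵁ U.1) := U.2.preimage p
    haveI := (local_facts hp hfree U.2 hA).1 g
    haveI : IsIso (p ⁻¹ᵁ U.1).toSpecΓ := inferInstanceAs (IsIso hA.isoSpec.hom)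
    rw [← hA.toSpecΓ_fromSpec, Category.assoc]
    infer_instance
  haveI := hloc
  have hdisj : Pairwise (Function.onFun Disjoint fun g => Set.range (graphMap hp.inv g)) := by
    intro g h hne
    refine Set.disjoint_left.2 ?_
    rintro _ ⟨x, rfl⟩ ⟨y, hy⟩
    have e : ∀ (k : G) z, pullback.fst p p (graphMap hp.inv k z) = z :=
      fun k z => congr(($(pullback.lift_fst (𝟙 X) (ρ k).hom
        ((Category.id_comp p).trans (hp.inv k).symm))).base z)
    obtain rfl : y = x := by rw [← e h y, hy, e g x]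
    obtain ⟨U, hU, hxU, -⟩ := exists_isAffineOpen_mem_and_subset (x := p y) (U := ⊤) trivial
    exact hne ((local_facts hp hfree hU (hU.preimage p)).2.2.1 g h y hxU hy.symm)
  haveI : IsOpenImmersion (Sigma.desc fun g : G => graphMap hp.inv g) :=
    isOpenImmersion_sigmaDesc _ _ hdisj
  haveI : Epi (Sigma.desc fun g : G => graphMap hp.inv g).base := by
    rw [TopCat.epi_iff_surjective]
    intro z
    obtain ⟨U, hU, hzU, -⟩ :=
      exists_isAffineOpen_mem_and_subset (x := p (pullback.fst p p z)) (U := ⊤) trivial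
    obtain ⟨g, x, rfl⟩ := (local_facts hp hfree hU (hU.preimage p)).2.2.2 z hzU
    exact ⟨Sigma.ι (fun _ : G => X) g x,
      congr(($(Sigma.ι_desc (fun g : G => graphMap hp.inv g) g)).base x)⟩
  exact IsOpenImmersion.isIso _

include hfree in
theorem flat_of_free (hp : SGA1.IsQuot ρ p) : Flat p := by
  haveI := hp.affine
  let 𝒰 := X.openCoverOfIsOpenCover (fun U : Y.affineOpens => p ⁻¹ᵁ U.1) (by
    refine IsOpenCover.mk (top_le_iff.mp fun x _ => ?_)
    obtain ⟨U, hU, hxU, -⟩ := exists_isAffineOpen_mem_and_subset (x := p x) (U := ⊤) trivial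
    exact Opens.mem_iSup.2 ⟨⟨U, hU⟩, hxU⟩)
  rw [IsZariskiLocalAtSource.iff_of_openCover (P := @Flat) 𝒰]
  intro U
  show Flat ((p ⁻¹ᵁ U.1).ι ≫ p)
  have hA : IsAffineOpen (p ⁻¹ᵁ U.1) := U.2.preimage p
  haveI := (local_facts hp hfree U.2 hA).2.1
  haveI : IsIso (p ⁻¹ᵁ U.1).toSpecΓ := inferInstanceAs (IsIso hA.isoSpec.hom)
  rw [← hA.toSpecΓ_fromSpec, Category.assoc]
  infer_instance

end SGA1Q
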