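import Groth.Agent.SGA1Q.Orbits

/-!
# Invariants commute with localisation: quotients are detected on one affine cover
-/

set_option autoImplicit false
universe u

open CategoryTheory CategoryTheory.Limits AlgebraicGeometry TopologicalSpace

namespace SGA1Q

variable {X Y : Scheme.{u}} {G : Type u} [Group G] {ρ : G →* Aut X} {p : X ⟶ Y}

/-- If the sections over an affine open `U` are the invariants, so are those over `D(b) ⊆ U`. -/
theorem basicOpen_of_affine [Finite G] (haff : IsAffineHom p)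
    (hinv : ∀ g : G, (ρ g).hom ≫ p = p) {U : Y.Opens} (hU : IsAffineOpen U)
    (hinj : Function.Injective (p.app U).hom)
    (hrange : ∀ s : Γ(X, p ⁻¹ᵁ U), (∀ g : G, ((ρ g).hom.appLE (p ⁻¹ᵁ U) (p ⁻¹ᵁ U)
        (SGA1.preimage_le_of_inv ρ p hinv g U)).hom s = s) → s ∈ Set.range (p.app U).hom)
    (b : Γ(Y, U)) :
    Function.Injective (p.app (Y.basicOpen b)).hom ∧
    ∀ s : Γ(X, p ⁻¹ᵁ Y.basicOpen b),
      (∀ g : G, ((ρ g).hom.appLE (p ⁻¹ᵁ Y.basicOpen b) (p ⁻¹ᵁ Y.basicOpen b)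
        (SGA1.preimage_le_of_inv ρ p hinv g _)).hom s = s) →
      s ∈ Set.range (p.app (Y.basicOpen b)).hom := by
  classical
  haveI := haff
  cases nonempty_fintype G
  have hA : IsAffineOpen (p ⁻¹ᵁ U) := hU.preimage p
  set a := (p.app U).hom b with ha
  let iY : Y.basicOpen b ⟶ U := homOfLE (Y.basicOpen_le b)
  let iX : p ⁻¹ᵁ Y.basicOpen b ⟶ p ⁻¹ᵁ U := homOfLE (p.preimage_mono (Y.basicOpen_le b))
  letI := (Y.presheaf.map iY.op).hom.toAlgebra
  letI := (X.presheaf.map iX.op).hom.toAlgebra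
  haveI : IsLocalization.Away b Γ(Y, Y.basicOpen b) := hU.isLocalization_of_eq_basicOpen b iY rfl
  haveI : IsLocalization.Away a Γ(X, p ⁻¹ᵁ Y.basicOpen b) :=
    hA.isLocalization_of_eq_basicOpen a iX (Scheme.preimage_basicOpen p b)
  have hnat : ∀ t : Γ(Y, U), (p.app (Y.basicOpen b)).hom (algebraMap _ _ t) =
      algebraMap _ Γ(X, p ⁻¹ᵁ Y.basicOpen b) ((p.app U).hom t) :=
    fun t => congr(($(p.naturality iY.op)).hom t)
  have hub : IsUnit (algebraMap Γ(Y, U) Γ(Y, Y.basicOpen b) b) :=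
    IsLocalization.Away.algebraMap_isUnit b
  have hua : IsUnit (algebraMap Γ(X, p ⁻¹ᵁ U) Γ(X, p ⁻¹ᵁ Y.basicOpen b) a) :=
    IsLocalization.Away.algebraMap_isUnit a
  constructor
  · rw [injective_iff_map_eq_zero]
    intro t ht
    obtain ⟨n, t₀, ht₀⟩ := IsLocalization.Away.surj b t
    have h0 : algebraMap _ Γ(X, p ⁻¹ᵁ Y.basicOpen b) ((p.app U).hom t₀) =
        algebraMap Γ(X, p ⁻¹ᵁ U) Γ(X, p ⁻¹ᵁ Y.basicOpen b) 0 := by
      rw [← hnat, ← ht₀, map_mul, ht, zero_mul, map_zero]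
    obtain ⟨k, hk⟩ := IsLocalization.Away.exists_of_eq a h0
    rw [mul_zero] at hk
    have hk' : b ^ k * t₀ = 0 := hinj (by rw [map_mul, map_pow, map_zero, ← ha]; exact hk)
    have h1 : algebraMap Γ(Y, U) Γ(Y, Y.basicOpen b) t₀ = 0 := by
      have := congrArg (algebraMap Γ(Y, U) Γ(Y, Y.basicOpen b)) hk'
      rw [map_mul, map_pow, map_zero] at this
      exact (hub.pow k).mul_right_eq_zero.mp this
    rw [h1] at ht₀
    exact (hub.pow n).mul_left_eq_zero.mp ht₀
  · intro s hs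
    obtain ⟨n, s₀, hs₀⟩ := IsLocalization.Away.surj a s
    let σ : G → (Γ(X, p ⁻¹ᵁ U) →+* Γ(X, p ⁻¹ᵁ U)) := fun g =>
      ((ρ g).hom.appLE (p ⁻¹ᵁ U) (p ⁻¹ᵁ U) (SGA1.preimage_le_of_inv ρ p hinv g U)).hom
    have hσa : ∀ g, σ g a = a := fun g => appLE_app_of_inv hinv U g b
    have hσ : ∀ g (x : Γ(X, p ⁻¹ᵁ U)),
        algebraMap _ Γ(X, p ⁻¹ᵁ Y.basicOpen b) (σ g x) =
          ((ρ g).hom.appLE _ _ (SGA1.preimage_le_of_inv ρ p hinv g _)).hom (algebraMap _ _ x) := by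
      intro g x
      have : (ρ g).hom.appLE (p ⁻¹ᵁ U) (p ⁻¹ᵁ U) (SGA1.preimage_le_of_inv ρ p hinv g U) ≫
            X.presheaf.map iX.op = X.presheaf.map iX.op ≫
            (ρ g).hom.appLE _ _ (SGA1.preimage_le_of_inv ρ p hinv g (Y.basicOpen b)) := by
        rw [Scheme.Hom.appLE_map, Scheme.Hom.map_appLE]
      exact congr(($this).hom x)
    have hex : ∀ g, ∃ k : ℕ, a ^ k * σ g s₀ = a ^ k * s₀ := by
      intro g
      refine IsLocalization.Away.exists_of_eq (S := Γ(X, p ⁻¹ᵁ Y.basicOpen b)) a ?_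
      rw [hσ, ← hs₀, map_mul, map_pow, hs g, ← hσ, hσa]
    choose k hk using hex
    set K := Finset.univ.sup k with hK
    have hfix : ∀ g, σ g (a ^ K * s₀) = a ^ K * s₀ := by
      intro g
      have hle : k g ≤ K := Finset.le_sup (Finset.mem_univ g)
      rw [map_mul, map_pow, hσa, ← Nat.sub_add_cancel hle, pow_add, mul_assoc, hk g, mul_assoc]
    obtain ⟨t₁, ht₁⟩ := hrange _ hfix
    obtain ⟨u, hu⟩ := hub.pow (K + n)
    refine ⟨algebraMap _ _ t₁ * (u⁻¹ : (Γ(Y, Y.basicOpen b))ˣ), (hua.pow (K + n)).mul_right_cancel ?_⟩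
    have h2 : (p.app (Y.basicOpen b)).hom (u : Γ(Y, Y.basicOpen b)) =
        algebraMap _ Γ(X, p ⁻¹ᵁ Y.basicOpen b) a ^ (K + n) := by
      rw [hu, map_pow, hnat]
    rw [← h2, ← map_mul, mul_assoc, Units.inv_mul, mul_one, hnat, ht₁, map_mul, map_pow, h2,
      ← hs₀]
    ring

/-- Being a quotient can be checked on one affine open cover of the target. -/
theorem isQuot_of_affine_cover [Finite G] (haff : IsAffineHom p)
    (hinv : ∀ g : G, (ρ g).hom ≫ p = p)
    (h : ∀ y : Y, ∃ U : Y.Opens, IsAffineOpen U ∧ y ∈ U ∧ Function.Injective (p.app U).hom ∧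
      ∀ s : Γ(X, p ⁻¹ᵁ U), (∀ g : G, ((ρ g).hom.appLE (p ⁻¹ᵁ U) (p ⁻¹ᵁ U)
        (SGA1.preimage_le_of_inv ρ p hinv g U)).hom s = s) → s ∈ Set.range (p.app U).hom) :
    SGA1.IsQuot ρ p := by
  choose U hU hyU hinj hrange using h
  refine isQuot_of_basis haff hinv {V | ∃ (y : Y) (b : Γ(Y, U y)), V = Y.basicOpen b} ?_ ?_ ?_
  · rw [Opens.isBasis_iff_nbhd]
    intro W x hx
    obtain ⟨b, hb, hxb⟩ := (hU x).exists_basicOpen_le ⟨x, hx⟩ (hyU x)
    exact ⟨_, ⟨x, b, rfl⟩, hxb, hb⟩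
  · rintro _ ⟨y, b, rfl⟩
    exact (basicOpen_of_affine haff hinv (hU y) (hinj y) (hrange y) b).1
  · rintro _ ⟨y, b, rfl⟩
    exact (basicOpen_of_affine haff hinv (hU y) (hinj y) (hrange y) b).2

section Spec

variable (G) (A B : Type u) [CommRing A] [CommRing B] [Algebra B A] [MulSemiringAction G A]

/-- `Spec A ⟶ Spec A^G` is a quotient. -/
theorem isQuot_Spec [Finite G] [SMulCommClass G B A] [Algebra.IsInvariant B A G] [FaithfulSMul B A]
    (ρ : G →* Aut (Spec (CommRingCat.of A)))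
    (hρ : Set.range (fun g : G => (ρ g).hom) =
      Set.range (fun g : G => Spec.map (CommRingCat.ofHom (MulSemiringAction.toRingHom G A g)))) :
    SGA1.IsQuot ρ (Spec.map (CommRingCat.ofHom (algebraMap B A))) := by
  set φ := CommRingCat.ofHom (algebraMap B A) with hφ
  have hinv : ∀ g : G, (ρ g).hom ≫ Spec.map φ = Spec.map φ := by
    intro g
    obtain ⟨g', hg'⟩ := hρ.le ⟨g, rfl⟩
    have hg'' : Spec.map (CommRingCat.ofHom (MulSemiringAction.toRingHom G A g')) = (ρ g).hom := hg'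
    rw [← hg'', ← Spec.map_comp]
    congr 1
    ext b
    exact smul_algebraMap g' b
  have nat : Function.Injective ((Spec.map φ).app ⊤).hom ∧
      ∀ s : Γ(Spec (CommRingCat.of A), (Spec.map φ) ⁻¹ᵁ ⊤),
      (∀ g : G, ((ρ g).hom.appLE _ _ (SGA1.preimage_le_of_inv ρ _ hinv g ⊤)).hom s = s) →
      s ∈ Set.range ((Spec.map φ).app ⊤).hom := by
    have key : ∀ b, ((Spec.map φ).app ⊤).hom ((Scheme.ΓSpecIso (CommRingCat.of B)).inv.hom b) =
        (Scheme.ΓSpecIso (CommRingCat.of A)).inv.hom (algebraMap B A b) :=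
      fun b => (congr(($(Scheme.ΓSpecIso_inv_naturality φ)).hom b)).symm
    have bB := (ConcreteCategory.bijective_of_isIso (Scheme.ΓSpecIso (CommRingCat.of B)).inv)
    have bA := (ConcreteCategory.bijective_of_isIso (Scheme.ΓSpecIso (CommRingCat.of A)).inv)
    refine ⟨fun x y h => ?_, fun s hs => ?_⟩
    · obtain ⟨x, rfl⟩ := bB.2 x
      obtain ⟨y, rfl⟩ := bB.2 y
      refine congrArg _ (FaithfulSMul.algebraMap_injective B A (bA.1 ?_))
      exact (key x).symm.trans (h.trans (key y))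
    · obtain ⟨a, rfl⟩ := bA.2 s
      have hfix : ∀ g : G, g • a = a := by
        intro g
        obtain ⟨g', hg'⟩ := hρ.ge ⟨g, rfl⟩
        refine bA.1 (Eq.trans ?_ (hs g'))
        have hn := congr(($(Scheme.ΓSpecIso_inv_naturality
          (CommRingCat.ofHom (MulSemiringAction.toRingHom G A g)))).hom a)
        refine Eq.trans hn ?_
        have hg'' : (ρ g').hom = Spec.map (CommRingCat.ofHom (MulSemiringAction.toRingHom G A g)) :=
          hg'
        have e : (ρ g').hom.appLE ⊤ ⊤ (fun _ _ => trivial) =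
            (Spec.map (CommRingCat.ofHom (MulSemiringAction.toRingHom G A g))).appTop :=
          (appLE_congr_hom (U := ⊤) (V := ⊤) hg'' _ (fun _ _ => trivial)).trans
            (Scheme.Hom.appLE_eq_app _)
        exact (congr(($e).hom ((Scheme.ΓSpecIso (CommRingCat.of A)).inv.hom a))).symm
      obtain ⟨b, hb⟩ := Algebra.IsInvariant.isInvariant (A := B) a hfix
      exact ⟨_, (key b).trans (by rw [hb])⟩
  exact isQuot_of_affine_cover inferInstance hinv
    fun y => ⟨⊤, isAffineOpen_top _, trivial, nat.1, nat.2⟩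

end Spec

end SGA1Q
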